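import Mathlib
import Cfsg.Agent.INV.AI.Pair

/-!
Pairs of essential subgroups with `q > 2`: the join of the pair contains the focal subgroup.
-/

set_option autoImplicit false
set_option linter.unusedSectionVars false

namespace CL.AInt

open Cfsg Subgroup CL.MSS CL.Th CL.Push
open scoped commutatorElement

variable {G : Type*} [Group G]

local notation "𝐂" A:max => centralizer ((A : Subgroup G) : Set G)
local notation "𝐍" A:max => normalizer ((A : Subgroup G) : Set G)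
local notation "Ω" A:max => omegaOne 2 A

variable [Finite G] {S E F : Subgroup G}

theorem Ess.card_om_cj (hE : Ess S E) {n : G} (hn : n ∈ 𝐍 S) :
    Nat.card (Ω (n •ᶜ E)) = Nat.card (Ω E) := by
  rw [← card_cj n (Ω E)]
  congr 2
  ext v
  rw [(hE.cj hn).mem_om, mem_cj, mem_cj, hE.mem_om]
  refine and_congr Iff.rfl ⟨fun e => ?_, fun e => ?_⟩
  · calc n⁻¹ * v * n * (n⁻¹ * v * n) = n⁻¹ * (v * v) * n := by group
      _ = 1 := by rw [e]; group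
  · calc v * v = n * (n⁻¹ * v * n * (n⁻¹ * v * n)) * n⁻¹ := by group
      _ = 1 := by rw [e]; group

/-- If `x ∈ E` has `C_S(x) = E`, the conjugates of `x` in `E` come from `N(E)`. -/
theorem Ess.mem_norm_of_conj (hE : Ess S E) {x t : G} (hx : ∀ s ∈ S, s * x = x * s → s ∈ E)
    (ht : t ∈ S) (h : t * x * t⁻¹ ∈ E) : t ∈ 𝐍 E := by
  refine mem_normalizer_iff_cj.2 (cj_eq_of_ge fun e he => mem_cj.2 (hx _ ?_ ?_))
  · exact mul_mem (mul_mem (inv_mem ht) (hE.le he)) ht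
  · have := hE.comm e he _ h
    calc t⁻¹ * e * t * x = t⁻¹ * (e * (t * x * t⁻¹)) * t := by group
      _ = _ := by rw [this]; group

namespace Pr
variable (hU : Uq S) (h : Pr S E F)
include hU h

theorem mul_mem_T {r s : G} (hr : r ∈ S ⊓ 𝐍 (S ⊓ 𝐍 E)) (hs : s ∈ S ⊓ 𝐍 (S ⊓ 𝐍 E))
    (h1 : r ∉ 𝐍 E) (h2 : s ∉ 𝐍 E) : r * s ∈ 𝐍 E :=
  mem_normalizer_iff_cj.2 (by rw [cj_mul, (h.swap hU hs.1 hs.2 h2).1, (h.swap hU hr.1 hr.2 h1).2])

theorem mem_inf_of_comm {r y : G} (hr : r ∈ S ⊓ 𝐍 (S ⊓ 𝐍 E)) (h1 : r ∉ 𝐍 E) (hy : y ∈ S ⊓ 𝐍 E)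
    (hy2 : y * y = 1) (hc : r * y = y * r) : y ∈ E ∧ y ∈ F := by
  obtain ⟨e1, e2⟩ := h.swap hU hr.1 hr.2 h1
  have e : r * y * r⁻¹ = y := by rw [hc, mul_inv_cancel_right]
  rcases h.inv_mem_or hU hy hy2 with h2 | h2
  · exact ⟨h2, by rw [← e1, ← e]; exact conj_mem_cj h2⟩
  · exact ⟨by rw [← e2, ← e]; exact conj_mem_cj h2, h2⟩

variable (hb : ¬ F.relIndex (Ω E) ≤ 2)
include hb

theorem eq_or_eq_of_card {X : Subgroup G} (hX : Ess S X) (hle : X ≤ 𝐍 (S ⊓ 𝐍 E))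
    (hc : Nat.card (Ω X) = Nat.card (Ω E)) : X = E ∨ X = F := by
  refine h.eq_or_eq hU hX (le_inf (hX.om_le.trans hX.le) ?_)
  by_contra hn
  obtain ⟨x, hx, hxN⟩ := SetLike.not_le_iff_exists.1 hn
  have hm : ∀ y ∈ Ω X, y ∈ S ⊓ 𝐍 (S ⊓ 𝐍 E) := fun y hy => ⟨hX.le (hX.om_le hy), hle (hX.om_le hy)⟩
  have h1 : (𝐍 E).relIndex (Ω X) ≤ 2 := relIndex_le_two_iff.2 fun a ha b hb' =>
    h.mul_mem_T hU (hm a ha) (hm b hb')
  have h2 : Ω X ⊓ 𝐍 E ≤ Ω E ⊓ F := fun y hy => by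
    have := h.mem_inf_of_comm hU (hm x hx) hxN ⟨(hm y hy.1).1, hy.2⟩ (hX.mem_om.1 hy.1).2
      (hX.comm x (hX.om_le hx) y (hX.om_le hy.1))
    exact ⟨h.hE.mem_om.2 ⟨this.1, (hX.mem_om.1 hy.1).2⟩, this.2⟩
  have h3 := card_inf_mul_relIndex (𝐍 E) (Ω X)
  have h4 := card_inf_mul_relIndex F (Ω E)
  have h5 := card_le_of_le h2
  have h6 : 0 < Nat.card (Ω E ⊓ F : Subgroup G) := Nat.card_pos
  have h7 := Nat.mul_le_mul h5 h1
  rw [h3, hc, ← h4] at h7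
  exact hb (Nat.le_of_mul_le_mul_left h7 h6)

theorem mem_norm_T {n : G} (hn : n ∈ 𝐍 S) (hn' : n ∈ 𝐍 (S ⊓ 𝐍 (S ⊓ 𝐍 E))) :
    n ∈ 𝐍 (S ⊓ 𝐍 E) := by
  have hT : S ⊓ 𝐍 E ≤ S ⊓ 𝐍 (S ⊓ 𝐍 E) := le_inf inf_le_left le_normalizer
  have hc : Nat.card (Ω F) = Nat.card (Ω E) := by
    have := h.oE.card_eq hU h.hE
    rw [h.hE.om_inf_cent hU h.hF, mul_comm, card_inf_mul_relIndex] at this
    exact this.symm
  have h1 := h.eq_or_eq_of_card hU hb (h.hE.cj hn)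
    ((cj_le_of_mem_normalizer (h.E_le.trans hT) hn').trans inf_le_right) (h.hE.card_om_cj hn)
  have h2 := h.eq_or_eq_of_card hU hb (h.hF.cj hn)
    ((cj_le_of_mem_normalizer (h.F_le.trans hT) hn').trans inf_le_right)
    ((h.hF.card_om_cj hn).trans hc)
  refine mem_normalizer_of_cj_le ?_
  rw [h.T_eq_sup hU, cj_sup]
  exact sup_le (h1.elim (fun e => e.le.trans le_sup_left) fun e => e.le.trans le_sup_right)
    (h2.elim (fun e => e.le.trans le_sup_left) fun e => e.le.trans le_sup_right)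

theorem le_norm_T : S ≤ 𝐍 (S ⊓ 𝐍 E) := by
  by_contra hn
  obtain ⟨u, hu, hu'⟩ := SetLike.exists_of_lt (lt_inf_normalizer_of_lt hU.syl.pgroup
    (lt_of_le_not_ge inf_le_left fun e => hn (e.trans inf_le_right) : S ⊓ 𝐍 (S ⊓ 𝐍 E) < S))
  exact hu' ⟨hu.1, h.mem_norm_T hU hb (le_normalizer hu.1) hu.2⟩

theorem norm_le_norm_T : 𝐍 S ≤ 𝐍 (S ⊓ 𝐍 E) := fun n hn =>
  h.mem_norm_T hU hb hn (by rwa [inf_eq_left.2 (h.le_norm_T hU hb)])

theorem ess_le {X : Subgroup G} (hX : Ess S X) : X ≤ 𝐍 E := by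
  by_contra hXN
  have hS : ∀ s ∈ S, s ∈ S ⊓ 𝐍 (S ⊓ 𝐍 E) := fun s hs => ⟨hs, h.le_norm_T hU hb hs⟩
  obtain ⟨x, hx, hxN⟩ : ∃ x ∈ Ω X, x ∉ 𝐍 E := by
    by_contra hc
    push Not at hc
    rcases h.eq_or_eq hU hX (le_inf (hX.om_le.trans hX.le) hc) with rfl | rfl
    · exact hXN le_normalizer
    · exact hXN h.FE
  obtain ⟨hxX, hx2⟩ := hX.mem_om.1 hx
  have hxS := hX.le hxX
  have hxi : x⁻¹ = x := inv_eq_of_mul_eq_one_right hx2
  obtain ⟨sw1, sw2⟩ := h.swap hU hxS (hS x hxS).2 hxN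
  -- elements of `E ∩ F` that commute with `x` are central
  have hz : ∀ y ∈ E, y ∈ F → y * x = x * y → ∀ s ∈ S, y * s = s * y := fun y hy hy' hc s hs => by
    by_cases hsN : s ∈ 𝐍 E
    · exact h.cen hU hy hy' ⟨hs, hsN⟩
    have := h.cen hU hy hy' ⟨mul_mem hs hxS, h.mul_mem_T hU (hS s hs) (hS x hxS) hsN hxN⟩
    rw [mul_assoc, ← hc, ← mul_assoc, ← mul_assoc] at this
    exact mul_right_cancel this
  have hz' : ∀ y ∈ Ω X, y ∈ 𝐍 E → ∀ s ∈ S, y * s = s * y := fun y hy hyN => by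
    have hc := hX.comm x hxX y (hX.om_le hy)
    have := h.mem_inf_of_comm hU (hS x hxS) hxN ⟨hX.le (hX.om_le hy), hyN⟩ (hX.mem_om.1 hy).2 hc
    exact hz y this.1 this.2 hc.symm
  have hcx : ∀ s ∈ S, s * x = x * s → s ∈ X := fun s hs hc => hX.cent_om hU hs fun v hv hv2 => by
    have hv' := hX.mem_om.2 ⟨hv, hv2⟩
    by_cases hvN : v ∈ 𝐍 E
    · exact hz' v hv' hvN s hs
    have := hz' _ (mul_mem hv' hx) (h.mul_mem_T hU (hS v (hX.le hv)) (hS x hxS) hvN hxN) s hs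
    rw [mul_assoc, ← hc, ← mul_assoc, ← mul_assoc] at this
    exact mul_right_cancel this
  have hi : (𝐂 (S ⊓ 𝐍 X)).relIndex (Ω X) ≤ 2 := relIndex_le_two_iff.2 fun a ha b hb' h1 h2 s hs => by
    refine (hz' _ (mul_mem ha hb') (h.mul_mem_T hU (hS a (hX.le (hX.om_le ha)))
      (hS b (hX.le (hX.om_le hb'))) (fun e => h1 fun s hs => (hz' a ha e s hs.1).symm)
      fun e => h2 fun s hs => (hz' b hb' e s hs.1).symm) s hs.1).symm
  obtain ⟨t, ht, htX⟩ := hX.exists_not_mem hU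
  have c1 := card_inf_mul_relIndex (𝐂 (S ⊓ 𝐍 X)) (Ω X)
  have c2 : 0 < Nat.card (Ω X ⊓ 𝐂 (S ⊓ 𝐍 X) : Subgroup G) := Nat.card_pos
  have o : Off S X (S ⊓ 𝐍 X) := by
    refine ⟨le_rfl, fun e => htX (e ht), commutator_le.2 fun v hv s hs u hu => ?_, ?_⟩
    · refine (hz' _ (comm_mem hv (hX.norm_om hs.2)) ?_ u hu.1).symm
      have hvS := hX.le (hX.om_le hv)
      have e : ⁅v, s⁆ = v * (s * v⁻¹ * s⁻¹) := by rw [commutatorElement_def]; group
      rw [e]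
      by_cases hvN : v ∈ 𝐍 E
      · exact mul_mem hvN (conj_mem_of_normalizes (h.le_norm_T hU hb) hs.1
          (inv_mem (⟨hvS, hvN⟩ : v ∈ S ⊓ 𝐍 E))).2
      have hsS : s ∈ S := hs.1
      have hw : s * v⁻¹ * s⁻¹ ∈ S := mul_mem (mul_mem hsS (inv_mem hvS)) (inv_mem hsS)
      refine h.mul_mem_T hU (hS v hvS) (hS _ hw) hvN fun e => hvN ?_
      have := (conj_mem_of_normalizes' (h.le_norm_T hU hb) hsS (⟨hw, e⟩ : _ ∈ S ⊓ 𝐍 E)).2
      simpa [mul_assoc] using this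
    · have h0 : X.relIndex (S ⊓ 𝐍 X) ≠ 0 := index_ne_zero_of_finite
      have h1 : X.relIndex (S ⊓ 𝐍 X) ≠ 1 := fun e => htX (relIndex_eq_one.1 e ht)
      rw [← c1, mul_comm]
      exact Nat.mul_le_mul_right _ (by omega)
  have hi2 : X.relIndex (S ⊓ 𝐍 X) ≤ 2 := by
    have := o.card_eq hU hX
    rw [← c1, mul_comm] at this
    rw [← Nat.eq_of_mul_eq_mul_right c2 this]
    exact hi
  replace hi2 := relIndex_le_two_iff.1 hi2
  -- conjugates `y x` of `x`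
  have hmem : ∀ d ∈ S, ∀ y ∈ E, y ∈ F → y * x = x * y → d * x * d⁻¹ = y * x → d ∈ S ⊓ 𝐍 X :=
    fun d hd y hy hy' hc e => ⟨hd, hX.mem_norm_of_conj hcx hd
      (e ▸ mul_mem (hcx y (h.hE.le hy) hc) hxX)⟩
  have hb1 : ∀ a ∈ Ω E, x * a * x ∈ Ω F := fun a ha => h.hF.mem_om.2 ⟨by
    rw [← sw1]; nth_rewrite 3 [← hxi]; exact conj_mem_cj (h.hE.om_le ha), by
    calc x * a * x * (x * a * x) = x * a * (x * x) * a * x := by group
      _ = x * (a * a) * x := by rw [hx2]; group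
      _ = 1 := by rw [(h.hE.mem_om.1 ha).2, mul_one, hx2]⟩
  have hcom : ∀ a ∈ Ω E, ∀ b ∈ Ω F, b * a * b * a ∈ E ∧ b * a * b * a ∈ F ∧
      b * a * b * a * (b * a * b * a) = 1 := fun a ha b hb' => by
    have ha2 : a⁻¹ = a := inv_eq_of_mul_eq_one_right (h.hE.mem_om.1 ha).2
    have hb2 : b⁻¹ = b := inv_eq_of_mul_eq_one_right (h.hF.mem_om.1 hb').2
    have h1 : b * a * b * a ∈ Ω E := mul_mem (by
      nth_rewrite 2 [← hb2]
      exact conj_mem_of_normalizes (h.FE.trans h.hE.norm_om) (h.hF.om_le hb') ha) ha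
    refine ⟨h.hE.om_le h1, ?_, (h.hE.mem_om.1 h1).2⟩
    rw [mul_assoc, mul_assoc, ← mul_assoc a]
    refine mul_mem (h.hF.om_le hb') ?_
    nth_rewrite 2 [← ha2]
    exact conj_mem_of_normalizes h.EF (h.hE.om_le ha) (h.hF.om_le hb')
  have hd : ∀ a ∈ Ω E, a ∉ F → a * (x * a * x) ∈ S ⊓ 𝐍 X ∧ a * (x * a * x) ∉ X := by
    intro a ha haF
    have hb' := hb1 a ha
    have ha2 : a⁻¹ = a := inv_eq_of_mul_eq_one_right (h.hE.mem_om.1 ha).2
    obtain ⟨q1, q2, q3⟩ := hcom a ha _ hb'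
    have q4 := inv_eq_of_mul_eq_one_right q3
    have e1 : x * (x * a * x * a * (x * a * x) * a) * x = (x * a * x * a * (x * a * x) * a)⁻¹ := by
      simp only [mul_inv_rev, hxi, ha2, ← mul_assoc, hx2, one_mul]
    have e2 : a * (x * a * x) * x * (a * (x * a * x))⁻¹ =
        (x * a * x * a * (x * a * x) * a)⁻¹ * x := by
      simp only [mul_inv_rev, hxi, ha2, mul_assoc, hx2, mul_one]
    rw [q4] at e1 e2
    refine ⟨hmem _ (mul_mem (h.hE.le (h.hE.om_le ha)) (h.hF.le (h.hF.om_le hb'))) _ q1 q2 ?_ e2,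
      fun e => haF (h.mem_of_comm_eq_sq hU ha hb' (fun e' => haF ?_) (one_mem _) ?_)⟩
    · nth_rewrite 2 [← e1]
      simp only [← mul_assoc, hx2, one_mul]
    · have := conj_mem_cj (g := x) e'
      rw [sw1, hxi] at this
      simpa only [← mul_assoc, hx2, one_mul, mul_assoc a x x, mul_one] using this
    · rw [hX.comm _ e x hxX, mul_inv_cancel_right] at e2
      have e3 : x * a * x * a * (x * a * x) * a = 1 := by simpa using e2.symm
      rw [commutatorElement_def, ← inv_inj, mul_one, inv_one, ← e3]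
      simp only [mul_inv_rev, hxi, ha2, inv_inv, mul_assoc]
  obtain ⟨a1, ha1, a2, ha2, n1, n2, n12⟩ : ∃ a1 ∈ Ω E, ∃ a2 ∈ Ω E, a1 ∉ F ∧ a2 ∉ F ∧ a1 * a2 ∉ F := by
    by_contra hc
    push Not at hc
    exact hb (relIndex_le_two_iff.2 hc)
  obtain ⟨d1, d1'⟩ := hd a1 ha1 n1
  obtain ⟨d2, d2'⟩ := hd a2 ha2 n2
  obtain ⟨-, d12⟩ := hd _ (mul_mem ha1 ha2) n12
  have e12 : x * (a1 * a2) * x = x * a1 * x * (x * a2 * x) := by
    calc _ = x * a1 * (x * x) * a2 * x := by rw [hx2]; group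
      _ = _ := by group
  rw [e12] at d12
  have hb1' := hb1 a1 ha1
  have hb2' := hb1 a2 ha2
  have xb1 : x * (x * a1 * x) * x = a1 := by simp only [← mul_assoc, hx2, one_mul, mul_assoc a1, mul_one]
  generalize x * a1 * x = b1 at d1 d1' d12 hb1' xb1
  obtain ⟨b2, hb2⟩ : ∃ b2, x * a2 * x = b2 := ⟨_, rfl⟩
  rw [hb2] at d2 d2' d12 hb2'
  obtain ⟨p1, p2, p3⟩ := hcom a2 ha2 b1 hb1'
  obtain ⟨q1, q2, q3⟩ := hcom a1 ha1 b2 hb2'
  have s1 := (h.hE.mem_om.1 ha1).2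
  have s2 := (h.hE.mem_om.1 ha2).2
  have s3 := (h.hF.mem_om.1 hb1').2
  have s4 := (h.hF.mem_om.1 hb2').2
  have xc : x * (b1 * a2 * b1 * a2) * x = (b2 * a1 * b2 * a1)⁻¹ := by
    calc x * (b1 * a2 * b1 * a2) * x
        = x * b1 * (x * x) * a2 * (x * x) * b1 * (x * x) * a2 * x := by rw [hx2]; group
      _ = (x * b1 * x) * (x * a2 * x) * (x * b1 * x) * (x * a2 * x) := by group
      _ = _ := by
        rw [xb1, hb2]
        simp only [mul_inv_rev, inv_eq_of_mul_eq_one_right s1, inv_eq_of_mul_eq_one_right s4,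
          mul_assoc]
  rw [inv_eq_of_mul_eq_one_right q3] at xc
  have r1 : b1 * a2 = b1 * a2 * b1 * a2 * (a2 * b1) := by
    calc b1 * a2 = b1 * a2 * (b1 * (a2 * a2) * b1) := by rw [s2, mul_one, s3, mul_one]
      _ = _ := by group
  have r2 : b2 * a1 = b2 * a1 * b2 * a1 * (a1 * b2) := by
    calc b2 * a1 = b2 * a1 * (b2 * (a1 * a1) * b2) := by rw [s1, mul_one, s4, mul_one]
      _ = _ := by group
  generalize b1 * a2 * b1 * a2 = c at p1 p2 p3 xc r1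
  generalize b2 * a1 * b2 * a1 = c' at q1 q2 q3 xc r2
  have f1 : a1 * b1 * (a2 * b2) = c * (a1 * a2 * (b1 * b2)) := by
    calc a1 * b1 * (a2 * b2) = a1 * (b1 * a2) * b2 := by group
      _ = a1 * c * (a2 * b1 * b2) := by rw [r1]; group
      _ = _ := by rw [h.hE.comm a1 (h.hE.om_le ha1) c p1]; group
  have f2 : a2 * b2 * (a1 * b1) = c' * (a1 * a2 * (b1 * b2)) := by
    calc a2 * b2 * (a1 * b1) = a2 * (b2 * a1) * b1 := by group
      _ = a2 * c' * (a1 * (b2 * b1)) := by rw [r2]; group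
      _ = c' * (a2 * a1 * (b2 * b1)) := by rw [h.hE.comm a2 (h.hE.om_le ha2) c' q1]; group
      _ = _ := by
        rw [h.hE.comm a2 (h.hE.om_le ha2) a1 (h.hE.om_le ha1),
          h.hF.comm b2 (h.hF.om_le hb2') b1 (h.hF.om_le hb1')]
  have hcX : c ∉ X := fun e => d12 ((mul_mem_cancel_left e).1 (f1 ▸ hi2 _ d1 _ d2 d1' d2'))
  have hcc := h.hE.comm c p1 c' q1
  have hcN : c ∈ S ⊓ 𝐍 X := by
    refine hmem c (h.hE.le p1) (c * c') (mul_mem p1 q1) (mul_mem p2 q2) ?_ ?_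
    · calc c * c' * x = c' * c * x := by rw [hcc]
        _ = x * c * (x * x) * x * c * x * (x * x) := by rw [← xc, hx2]; group
        _ = x * c * (x * x) * (x * c * x) * (x * x) := by group
        _ = _ := by rw [xc, hx2]; group
    · rw [inv_eq_of_mul_eq_one_right p3, ← xc, mul_assoc c _ x, mul_assoc (x * c), hx2]; group
  have g1 := hX.comm _ (hi2 _ d1 _ hcN d1' hcX) _ (hi2 _ d2 _ hcN d2' hcX)
  have t1 : a1 * b1 ∈ S ⊓ 𝐍 E := mul_mem (h.E_le (h.hE.om_le ha1)) (h.F_le (h.hF.om_le hb1'))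
  have t2 : a2 * b2 ∈ S ⊓ 𝐍 E := mul_mem (h.E_le (h.hE.om_le ha2)) (h.F_le (h.hF.om_le hb2'))
  have g2 : a1 * b1 * (a2 * b2) * (c * c) = a2 * b2 * (a1 * b1) * (c * c) := by
    calc _ = a1 * b1 * (a2 * b2 * c) * c := by group
      _ = a1 * b1 * (c * (a2 * b2)) * c := by rw [h.cen hU p1 p2 t2]
      _ = a1 * b1 * c * (a2 * b2 * c) := by group
      _ = a2 * b2 * (c * (a1 * b1)) * c := by rw [g1]; group
      _ = _ := by rw [h.cen hU p1 p2 t1]; group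
  rw [f1, f2] at g2
  have g3 : c = c' := mul_right_cancel (mul_right_cancel g2)
  refine hcX (hcx c (h.hE.le p1) ?_)
  rw [← g3] at xc
  nth_rewrite 1 [← xc]
  rw [mul_assoc, hx2, mul_one]

end Pr

theorem Pr.exists_index_two {P : Sylow 2 G} (hU : Uq (P : Subgroup G)) (h : Pr (P : Subgroup G) E F)
    (hb : ¬ F.relIndex (Ω E) ≤ 2) (hn : ¬ (P : Subgroup G) ≤ 𝐍 E) :
    ∃ K : Subgroup G, K.Normal ∧ K.index = 2 := by
  have hi : ((P : Subgroup G) ⊓ 𝐍 E).relIndex P = 2 := by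
    have h0 : ((P : Subgroup G) ⊓ 𝐍 E).relIndex P ≠ 0 := index_ne_zero_of_finite
    have h1 : ((P : Subgroup G) ⊓ 𝐍 E).relIndex P ≠ 1 := fun e =>
      hn ((relIndex_eq_one.1 e).trans inf_le_right)
    have h2 : ((P : Subgroup G) ⊓ 𝐍 E).relIndex P ≤ 2 := relIndex_le_two_iff.2
      fun a ha b hb' h1 h2 => ⟨mul_mem ha hb', h.mul_mem_T hU ⟨ha, h.le_norm_T hU hb ha⟩
        ⟨hb', h.le_norm_T hU hb hb'⟩ (fun e => h1 ⟨ha, e⟩) fun e => h2 ⟨hb', e⟩⟩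
    omega
  obtain ⟨K, hK, -, hK2⟩ := FusInv.exists_normal_index_two P inf_le_left hi fun a ha g hg =>
    (invariant_ess hU (fun a => a ∈ (P : Subgroup G) ⊓ 𝐍 E)
      (fun n hn a _ => propext (mem_normalizer_iff.1 (h.norm_le_norm_T hU hb hn) a).symm)
      (fun X hX x hx a ha => propext (iff_of_true
        (le_inf hX.le (h.ess_le hU hb hX) (conj_mem_of_normalizes le_rfl hx ha))
        (le_inf hX.le (h.ess_le hU hb hX) ha))) ha hg).to_iff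
  exact ⟨K, hK, hK2⟩

end CL.AInt
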