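import Mathlib
import Cfsg.Agent.TECH.SylIn

/-!
An involution `x` of a `2`-group that commutes with only one other conjugate `x z`, where `z` is not
a square in the centralizer: the conjugates form a coset of a cyclic group inverted by `x`.
-/

set_option autoImplicit false
set_option linter.unusedSectionVars false

namespace CL.AInt

open Subgroup CL.MSS

variable {G : Type*} [Group G]

local notation "𝐍" A:max => normalizer ((A : Subgroup G) : Set G)

theorem exists_ord_four {r : G} {k : ℕ} (hk : r ^ 2 ^ k = 1) (h : r * r ≠ 1) :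
    ∃ u ∈ zpowers r, u * u ≠ 1 ∧ u * u * (u * u) = 1 := by
  induction k generalizing r with
  | zero => rw [pow_zero, pow_one] at hk; exact absurd (by simp [hk]) h
  | succ k ih =>
    by_cases h2 : r * r * (r * r) = 1
    · exact ⟨r, mem_zpowers r, h, h2⟩
    obtain ⟨u, hu, hu'⟩ := ih (r := r * r) (by rw [← pow_two, ← pow_mul, ← pow_succ']; exact hk) h2
    exact ⟨u, zpowers_le.2 (mul_mem (mem_zpowers r) (mem_zpowers r)) hu, hu'⟩

theorem inv_of_mem_zpowers {x r u : G} (hx : x * x = 1) (h : x * r * x = r⁻¹) (hu : u ∈ zpowers r) :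
    x * u * x = u⁻¹ := by
  obtain ⟨j, rfl⟩ := mem_zpowers_iff.1 hu
  have hxi : x⁻¹ = x := inv_eq_of_mul_eq_one_right hx
  have h' : x * r * x⁻¹ = r⁻¹ := by rw [hxi, h]
  nth_rewrite 2 [← hxi]
  rw [← conj_zpow, h', inv_zpow]

theorem mul_eq_of_inv {x u : G} (hx : x * x = 1) (h : x * u * x = u⁻¹) : u⁻¹ * x = x * u := by
  rw [← h, mul_assoc, hx, mul_one]

theorem comm_zp {r u v : G} (hu : u ∈ zpowers r) (hv : v ∈ zpowers r) : u * v = v * u := by
  obtain ⟨i, rfl⟩ := mem_zpowers_iff.1 hu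
  obtain ⟨j, rfl⟩ := mem_zpowers_iff.1 hv
  exact zpow_mul_comm r i j

/-- The hypothesis on `x`. -/
structure Dx (S : Subgroup G) (x z : G) : Prop where
  pg : IsPGroup 2 S
  xS : x ∈ S
  x2 : x * x = 1
  z1 : z ≠ 1
  two : ∀ t ∈ S, t * x * t⁻¹ * x = x * (t * x * t⁻¹) → t * x * t⁻¹ = x ∨ t * x * t⁻¹ = x * z
  cz : ∀ t ∈ S, t * x * t⁻¹ * x = x * (t * x * t⁻¹) → t * z = z * t
  nsq : ∀ e ∈ S, e * x = x * e → e * e ≠ z
  nc : ∃ t ∈ S, t * x * t⁻¹ * x ≠ x * (t * x * t⁻¹)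

/-- The conclusion. -/
structure Dr (S : Subgroup G) (x z r : G) : Prop where
  dx : Dx S x z
  rS : r ∈ S
  inv : x * r * x = r⁻¹
  r2 : r * r ≠ 1
  cls : ∀ y, (∃ t ∈ S, t * x * t⁻¹ = y) ↔ x * y ∈ zpowers r

/-- The dihedral group generated by `x` and `r`. -/
def dih {x r : G} (hx : x * x = 1) (h : x * r * x = r⁻¹) : Subgroup G where
  carrier := {g | g ∈ zpowers r ∨ x * g ∈ zpowers r}
  one_mem' := Or.inl (one_mem _)
  mul_mem' := by
    have key : ∀ a b : G, x * (a * b) = (x * a * x) * (x * b) := fun a b => by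
      calc x * (a * b) = x * a * (x * x) * b := by rw [hx]; group
        _ = _ := by group
    rintro a b (ha | ha) (hb | hb)
    · exact Or.inl (mul_mem ha hb)
    · refine Or.inr ?_
      rw [key, inv_of_mem_zpowers hx h ha]
      exact mul_mem (inv_mem ha) hb
    · exact Or.inr (by rw [← mul_assoc]; exact mul_mem ha hb)
    · refine Or.inl ?_
      have : a * b = (x * (x * a) * x) * (x * b) := by
        rw [← key, ← mul_assoc, ← mul_assoc, hx, one_mul]
      rw [this, inv_of_mem_zpowers hx h ha]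
      exact mul_mem (inv_mem ha) hb
  inv_mem' := by
    rintro a (ha | ha)
    · exact Or.inl (inv_mem ha)
    · refine Or.inr ?_
      have h1 := inv_of_mem_zpowers hx h ha
      rw [← mul_assoc, hx, one_mul, mul_inv_rev, inv_eq_of_mul_eq_one_right hx,
        mul_left_inj] at h1
      rwa [← h1]

namespace Dx
variable {S : Subgroup G} {x z : G} (h : Dx S x z)
include h

theorem xi : x⁻¹ = x := inv_eq_of_mul_eq_one_right h.x2

theorem conj_sq (t : G) : t * x * t⁻¹ * (t * x * t⁻¹) = 1 := by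
  calc _ = t * (x * x) * t⁻¹ := by group
    _ = 1 := by rw [h.x2]; group

theorem sq_eq {u : G} (hu : u ∈ S) (hi : x * u * x = u⁻¹) (h1 : u * u ≠ 1)
    (h2 : u * u * (u * u) = 1) : u * u = z := by
  have e : u⁻¹ * x * u⁻¹⁻¹ = x * (u * u) := by rw [mul_eq_of_inv h.x2 hi]; group
  have hc : x * (u * u) * x = x * (x * (u * u)) := by
    calc x * (u * u) * x = (x * u * x) * (x * u * x) := by
          rw [mul_assoc (x * u), ← mul_assoc x (x * u), ← mul_assoc x x, h.x2]; group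
      _ = (u * u)⁻¹ := by rw [hi]; group
      _ = _ := by rw [inv_eq_of_mul_eq_one_right h2, ← mul_assoc x x, h.x2, one_mul]
  rcases h.two u⁻¹ (inv_mem hu) (by rw [e]; exact hc) with e1 | e1
  · rw [e] at e1
    exact absurd (by simpa using e1) h1
  · rw [e] at e1
    exact mul_left_cancel e1

theorem exists_sq {r : G} (hr : r ∈ S) (hi : x * r * x = r⁻¹) (h1 : r * r ≠ 1) :
    ∃ w ∈ zpowers r, w * w = z ∧ z * z = 1 := by
  obtain ⟨k, hk⟩ := isPGroup_iff_forall_mem.1 h.pg r hr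
  obtain ⟨u, hu, u1, u2⟩ := exists_ord_four hk h1
  have := h.sq_eq (zpowers_le.2 hr hu) (inv_of_mem_zpowers h.x2 hi hu) u1 u2
  exact ⟨u, hu, this, this ▸ u2⟩

theorem inv_mul {y : G} (hy : y * y = 1) : x * (x * y) * x = (x * y)⁻¹ := by
  rw [← mul_assoc, h.x2, one_mul, mul_inv_rev, h.xi, inv_eq_of_mul_eq_one_right hy]

theorem sq_ne {y : G} (hy : y * y = 1) (hc : y * x ≠ x * y) : x * y * (x * y) ≠ 1 := fun e => hc (by
  rw [← inv_eq_of_mul_eq_one_right e, mul_inv_rev, h.xi, inv_eq_of_mul_eq_one_right hy])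

theorem cen {t : G} (ht : t ∈ S) : t * z = z * t := by
  by_cases hc : t * x * t⁻¹ * x = x * (t * x * t⁻¹)
  · exact h.cz t ht hc
  have hy := h.conj_sq t
  have hr : x * (t * x * t⁻¹) ∈ S := mul_mem h.xS (mul_mem (mul_mem ht h.xS) (inv_mem ht))
  obtain ⟨w, hw, w1, w2⟩ := h.exists_sq hr (h.inv_mul hy) (h.sq_ne hy hc)
  have hi : t * x * t⁻¹ * w * (t * x * t⁻¹) = w⁻¹ := inv_of_mem_zpowers hy (by
    rw [mul_assoc, mul_assoc x, hy, mul_one, mul_inv_rev, h.xi, inv_eq_of_mul_eq_one_right hy]) hw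
  have h1 := h.sq_eq (u := t⁻¹ * w * t) (mul_mem (mul_mem (inv_mem ht) (zpowers_le.2 hr hw)) ht)
    (by
      calc x * (t⁻¹ * w * t) * x = t⁻¹ * (t * x * t⁻¹ * w * (t * x * t⁻¹)) * t := by group
        _ = _ := by rw [hi]; group)
    (fun e => h.z1 (by
      calc z = t * (t⁻¹ * w * t * (t⁻¹ * w * t)) * t⁻¹ := by rw [← w1]; group
        _ = 1 := by rw [e]; group))
    (by
      calc _ = t⁻¹ * (w * w * (w * w)) * t := by group
        _ = 1 := by rw [w1, w2]; group)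
  calc t * z = t * (t⁻¹ * w * t * (t⁻¹ * w * t)) := by rw [h1]
    _ = w * w * t := by group
    _ = _ := by rw [w1]

/-- The elements of the coset `x ⟨r⟩` are conjugates of `x`. -/
theorem conj_of_mem {t r y : G} (ht : t ∈ S) (hr : r = x * (t * x * t⁻¹)) (hy : x * y ∈ zpowers r) :
    ∃ s ∈ S, s * x * s⁻¹ = y := by
  have hrS : r ∈ S := hr ▸ mul_mem h.xS (mul_mem (mul_mem ht h.xS) (inv_mem ht))
  have hi : x * r * x = r⁻¹ := hr ▸ h.inv_mul (h.conj_sq t)
  obtain ⟨j, hj⟩ := mem_zpowers_iff.1 hy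
  have hy' : y = x * r ^ j := by rw [hj, ← mul_assoc, h.x2, one_mul]
  have key : ∀ i : ℤ, (r ^ i)⁻¹ * x = x * r ^ i := fun i =>
    mul_eq_of_inv h.x2 (inv_of_mem_zpowers h.x2 hi (zpow_mem (mem_zpowers r) i))
  obtain ⟨i, rfl | rfl⟩ := Int.even_or_odd' j
  · exact ⟨(r ^ i)⁻¹, inv_mem (zpow_mem hrS i), by rw [key, hy']; group⟩
  · refine ⟨(r ^ i)⁻¹ * t, mul_mem (inv_mem (zpow_mem hrS i)) ht, ?_⟩
    have e : t * x * t⁻¹ = x * r := by rw [hr, ← mul_assoc, h.x2, one_mul]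
    calc (r ^ i)⁻¹ * t * x * ((r ^ i)⁻¹ * t)⁻¹ = (r ^ i)⁻¹ * (t * x * t⁻¹) * r ^ i := by group
      _ = (r ^ i)⁻¹ * x * r * r ^ i := by rw [e]; group
      _ = _ := by rw [key, hy']; group

theorem eq_of_comm {r u : G} (hi : x * r * x = r⁻¹)
    (hc : ∀ y, x * y ∈ zpowers r → ∃ s ∈ S, s * x * s⁻¹ = y) (hu : u ∈ zpowers r)
    (hux : u * x = x * u) : u = 1 ∨ u = z := by
  obtain ⟨s, hs, e⟩ := hc (x * u) (by rwa [← mul_assoc, h.x2, one_mul])
  have := h.two s hs (by rw [e, mul_assoc, hux])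
  rw [e] at this
  exact this.imp (fun e => by simpa using e) mul_left_cancel

theorem comm_of_even {r y d : G} (hr : r ∈ S) (hi : x * r * x = r⁻¹)
    (hc : ∀ y, x * y ∈ zpowers r → ∃ s ∈ S, s * x * s⁻¹ = y) (hy : y ∈ S) (hy2 : y * y = 1)
    (hd : d ∈ zpowers r) (hd' : y * d * y ∈ zpowers r) (e : y * x * y = x * (d * d)) :
    y * (x * d) = x * d * y := by
  have h1 := mul_eq_of_inv h.x2 (inv_of_mem_zpowers h.x2 hi hd)
  have h2 : d * y * x = x * (d * y) := by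
    calc d * y * x = d * y * x * (y * y) := by rw [hy2, mul_one]
      _ = d * (y * x * y) * y := by group
      _ = d * (x * d) * (d * y) := by rw [e]; group
      _ = _ := by rw [← h1]; group
  have h3 := h.eq_of_comm hi hc (mul_mem hd hd') (by
    calc d * (y * d * y) * x = d * y * (d * y * x) := by group
      _ = d * y * (x * (d * y)) := by rw [h2]
      _ = d * y * x * (d * y) := by group
      _ = _ := by rw [h2]; group)
  have h4 : d * (y * d * y) = 1 := h3.resolve_right fun e' =>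
    h.nsq (d * y) (mul_mem (zpowers_le.2 hr hd) hy) h2 (by rw [← e']; group)
  calc y * (x * d) = y * x * (y * y) * d * (y * y) := by rw [hy2]; group
    _ = y * x * y * (y * d * y) * y := by group
    _ = x * d * (d * (y * d * y)) * y := by rw [e]; group
    _ = _ := by rw [h4, mul_one]

theorem exists_dr [Finite G] : ∃ r, Dr S x z r := by
  obtain ⟨t0, ht0, hn0⟩ := h.nc
  obtain ⟨t, ht, hmax⟩ := Set.exists_max_image (S : Set G) (fun t => orderOf (x * (t * x * t⁻¹)))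
    (Set.toFinite _) ⟨1, S.one_mem⟩
  set r := x * (t * x * t⁻¹) with hr
  have hmem : ∀ s ∈ S, x * (s * x * s⁻¹) ∈ S := fun s hs =>
    mul_mem h.xS (mul_mem (mul_mem hs h.xS) (inv_mem hs))
  have hord : ∀ s ∈ S, ∃ k, orderOf (x * (s * x * s⁻¹)) = 2 ^ k := fun s hs => by
    obtain ⟨k, hk⟩ := isPGroup_iff_forall_mem.1 h.pg _ (hmem s hs)
    obtain ⟨j, -, hj⟩ := (Nat.dvd_prime_pow Nat.prime_two).1 (orderOf_dvd_of_pow_eq_one hk)
    exact ⟨j, hj⟩
  have hdvd : ∀ s ∈ S, (x * (s * x * s⁻¹)) ^ orderOf r = 1 := fun s hs => by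
    obtain ⟨a, ha⟩ := hord s hs
    obtain ⟨b, hb⟩ := hord t ht
    have := hmax s hs
    rw [← hr] at hb
    simp only [ha, hb] at this
    rw [← orderOf_dvd_iff_pow_eq_one, ha, hb]
    exact pow_dvd_pow 2 ((Nat.pow_le_pow_iff_right one_lt_two).1 this)
  have hrS : r ∈ S := hmem t ht
  have hi : x * r * x = r⁻¹ := h.inv_mul (h.conj_sq t)
  have hr2 : r * r ≠ 1 := fun e => h.sq_ne (h.conj_sq t0) hn0 (by
    rw [← pow_two, ← orderOf_dvd_iff_pow_eq_one] at e ⊢
    exact (orderOf_dvd_of_pow_eq_one (hdvd t0 ht0)).trans e)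
  have hc : ∀ y, x * y ∈ zpowers r → ∃ s ∈ S, s * x * s⁻¹ = y := fun y => h.conj_of_mem ht rfl
  obtain ⟨w, hw, w1, -⟩ := h.exists_sq hrS hi hr2
  have hz : z ∈ zpowers r := w1 ▸ mul_mem hw hw
  have hx : x ∉ zpowers r := fun e => hr2 (by
    nth_rewrite 2 [← inv_inv r]
    rw [← hi, comm_zp e (mem_zpowers r), mul_assoc r, h.x2, mul_one, mul_inv_cancel])
  have hD : ∀ s ∈ S, s * x * s⁻¹ ∈ dih h.x2 hi → x * (s * x * s⁻¹) ∈ zpowers r := by
    rintro s hs (e | e)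
    · have h1 := inv_of_mem_zpowers h.x2 hi e
      rw [inv_eq_of_mul_eq_one_right (h.conj_sq s)] at h1
      rcases h.two s hs (by
        nth_rewrite 1 [← h1]
        rw [mul_assoc _ x x, h.x2, mul_one]) with e1 | e1
      · exact absurd (e1 ▸ e) hx
      · exact absurd ((mul_mem_cancel_right hz).1 (e1 ▸ e)) hx
    · exact e
  have hxD : x ∈ dih h.x2 hi := Or.inr (h.x2 ▸ one_mem _)
  have hyD : t * x * t⁻¹ ∈ dih h.x2 hi := Or.inr (mem_zpowers r)
  have hDS : dih h.x2 hi ≤ S := by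
    rintro g (e | e)
    · exact zpowers_le.2 hrS e
    · exact (mul_mem_cancel_left h.xS).1 (zpowers_le.2 hrS e)
  -- a conjugate of `x` that normalizes `D` lies in `D`
  have hN : ∀ s ∈ S, s * x * s⁻¹ ∈ 𝐍 (dih h.x2 hi) → s * x * s⁻¹ ∈ dih h.x2 hi := by
    intro s hs hn
    have hy2 := h.conj_sq s
    have hyS : s * x * s⁻¹ ∈ S := mul_mem (mul_mem hs h.xS) (inv_mem hs)
    have hpow := hdvd s hs
    have htwo := fun u hu => h.two (u⁻¹ * s) (mul_mem (inv_mem hu) hs)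
    have hy' : ∀ u : G, u⁻¹ * s * x * (u⁻¹ * s)⁻¹ = u⁻¹ * (s * x * s⁻¹) * u := fun u => by group
    simp only [hy'] at htwo
    generalize s * x * s⁻¹ = y at hn hy2 hyS hpow htwo ⊢
    have hyi : y⁻¹ = y := inv_eq_of_mul_eq_one_right hy2
    have h1 := hD y hyS (conj_mem_of_normalizes le_rfl hn hxD)
    have h2 := hD (y * t) (mul_mem hyS ht) (by
      convert conj_mem_of_normalizes le_rfl hn hyD using 1; group)
    have h3 : y * r * y⁻¹ ∈ zpowers r := by
      convert mul_mem (inv_mem h1) h2 using 1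
      rw [hr, mul_inv_rev, mul_inv_rev, mul_inv_rev, h.xi]
      calc _ = y⁻¹⁻¹ * (x * y⁻¹) * (x * x) * (y * t * x * (y * t)⁻¹) := by rw [h.x2]; group
        _ = _ := by group
    obtain ⟨j, hj⟩ := mem_zpowers_iff.1 h1
    obtain ⟨k, hk⟩ := hord t ht
    rw [← hr] at hk
    obtain ⟨i, rfl⟩ : Even j := by
      cases k with
      | zero => exact absurd (by rw [orderOf_eq_one_iff.1 hk, mul_one]) hr2
      | succ k =>
        have e1 : (x * y) ^ 2 = r ^ j := by rw [hj, hyi, pow_two]; group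
        rw [hk, pow_succ', pow_mul, e1, ← zpow_natCast, ← zpow_mul, ← orderOf_dvd_iff_zpow_eq_one,
          hk] at hpow
        push_cast at hpow
        rw [pow_succ'] at hpow
        exact even_iff_two_dvd.2 (Int.dvd_of_mul_dvd_mul_right (by positivity) hpow)
    have hd : r ^ i ∈ zpowers r := zpow_mem (mem_zpowers r) i
    have h4 := h.comm_of_even hrS hi hc hyS hy2 hd (by
      nth_rewrite 2 [← hyi]
      rw [← conj_zpow]; exact zpow_mem h3 i) (by
      rw [← zpow_add, hj, ← mul_assoc, h.x2, one_mul, hyi])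
    obtain ⟨u, hu, e⟩ := hc (x * r ^ i) (by rwa [← mul_assoc, h.x2, one_mul])
    have h5 := htwo u hu (by
      calc u⁻¹ * y * u * x = u⁻¹ * (y * (u * x * u⁻¹)) * u := by group
        _ = u⁻¹ * (u * x * u⁻¹ * y) * u := by rw [e, h4]
        _ = _ := by group)
    have h6 : y = x * r ^ i ∨ y = x * r ^ i * z := h5.imp (fun e' => by rw [← e, ← e']; group)
      fun e' => by
        calc y = u * (u⁻¹ * y * u) * u⁻¹ := by group
          _ = u * x * (z * u⁻¹) := by rw [e']; group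
          _ = _ := by rw [← h.cen (inv_mem hu), ← e]; group
    refine Or.inr ?_
    rcases h6 with e' | e'
    · rwa [e', ← mul_assoc, h.x2, one_mul]
    · rw [e', ← mul_assoc, ← mul_assoc, h.x2, one_mul]; exact mul_mem hd hz
  have hSN : S ≤ 𝐍 (dih h.x2 hi) := by
    by_contra hn
    obtain ⟨u, hu, hu'⟩ := SetLike.exists_of_lt (lt_inf_normalizer_of_lt h.pg
      (lt_of_le_not_ge inf_le_left fun e => hn (e.trans inf_le_right) : S ⊓ 𝐍 (dih h.x2 hi) < S))
    have h1 : ∀ g ∈ dih h.x2 hi, u * g * u⁻¹ ∈ 𝐍 (dih h.x2 hi) := fun g hg =>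
      (conj_mem_of_normalizes le_rfl hu.2 (⟨hDS hg, le_normalizer hg⟩ : g ∈ S ⊓ 𝐍 (dih h.x2 hi))).2
    have h2 := hN u hu.1 (h1 x hxD)
    have h3 := hN (u * t) (mul_mem hu.1 ht) (by convert h1 _ hyD using 1; group)
    have h4 : zpowers r ≤ u⁻¹ •ᶜ dih h.x2 hi := zpowers_le.2 (mem_cj.2 (by
      convert mul_mem h2 h3 using 1; rw [hr]; group))
    refine hu' ⟨hu.1, mem_normalizer_of_cj_le (cj_le_iff.2 ?_)⟩
    rintro g (e | e)
    · exact h4 e
    · exact (mul_mem_cancel_left (mem_cj.2 (by simpa using h2))).1 (h4 e)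
  exact ⟨r, h, hrS, hi, hr2, fun y => ⟨fun ⟨s, hs, e⟩ =>
    e ▸ hD s hs (conj_mem_of_normalizes hSN hs hxD), hc y⟩⟩

end Dx

namespace Dr
variable {S : Subgroup G} {x z r : G} (h : Dr S x z r)
include h

theorem le : zpowers r ≤ S := zpowers_le.2 h.rS

theorem inv' {u : G} (hu : u ∈ zpowers r) : x * u * x = u⁻¹ := inv_of_mem_zpowers h.dx.x2 h.inv hu

theorem exists_sq : ∃ w ∈ zpowers r, w * w = z ∧ z * z = 1 := h.dx.exists_sq h.rS h.inv h.r2

theorem z_mem : z ∈ zpowers r := let ⟨_, hw, e, _⟩ := h.exists_sq; e ▸ mul_mem hw hw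

theorem eq_of_comm {u : G} (hu : u ∈ zpowers r) (hux : u * x = x * u) : u = 1 ∨ u = z :=
  h.dx.eq_of_comm h.inv (fun y => (h.cls y).2) hu hux

theorem eq_of_sq {u : G} (hu : u ∈ zpowers r) (h2 : u * u = 1) : u = 1 ∨ u = z :=
  h.eq_of_comm hu (by rw [← mul_eq_of_inv h.dx.x2 (h.inv' hu), inv_eq_of_mul_eq_one_right h2])

theorem conj_mul {u : G} (hu : u ∈ zpowers r) : ∃ t ∈ S, t * x * t⁻¹ = x * u :=
  (h.cls _).2 (by rwa [← mul_assoc, h.dx.x2, one_mul])

/-- An element that normalizes `S` and the class of `x` normalizes `⟨r⟩`. -/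
theorem mem_norm [Finite G] {n : G} (hn : n ∈ 𝐍 S) (hx : x * (n * x * n⁻¹) ∈ zpowers r) :
    n ∈ 𝐍 (zpowers r) := by
  refine mem_normalizer_of_cj_le (cj_le_iff.2 (zpowers_le.2 (mem_cj.2 ?_)))
  obtain ⟨t, ht, e⟩ := h.conj_mul (mem_zpowers r)
  obtain ⟨s, hs, e'⟩ := (h.cls _).2 hx
  have h1 := (h.cls _).1 ⟨n * t * n⁻¹ * s, mul_mem (conj_mem_of_normalizes le_rfl hn ht) hs, rfl⟩
  convert mul_mem (inv_mem hx) h1 using 1
  calc n⁻¹⁻¹ * r * n⁻¹ = n * (x⁻¹ * (x * r)) * n⁻¹ := by group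
    _ = (n * x * n⁻¹)⁻¹ * (n * t * n⁻¹) * (n * x * n⁻¹) * (n * t * n⁻¹)⁻¹ := by rw [← e]; group
    _ = (n * x * n⁻¹)⁻¹ * (n * t * n⁻¹) * (s * x * s⁻¹) * (n * t * n⁻¹)⁻¹ := by rw [e']
    _ = _ := by group

theorem le_norm [Finite G] : S ≤ 𝐍 (zpowers r) := fun s hs =>
  h.mem_norm (le_normalizer hs) ((h.cls _).1 ⟨s, hs, rfl⟩)

end Dr

end CL.AInt
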