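import Mathlib
import Cfsg.Agent.INV.AI.Big
import Cfsg.Agent.INV.AI.Dih

/-!
Essential subgroups on which a transvection acts.
-/

set_option autoImplicit false
set_option linter.unusedSectionVars false

namespace CL.AInt

open Cfsg Subgroup CL.MSS CL.Th CL.Push
open scoped commutatorElement

variable {G : Type*} [Group G]

local notation "𝐂" A:max => centralizer ((A : Subgroup G) : Set G)
local notation "𝐍" A:max => normalizer ((A : Subgroup G) : Set G)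
local notation "Ω" A:max => omegaOne 2 A

/-- The largest subgroup of `C_E(N_S(E))` that is normal in `N(E)`. -/
def Z0 (S E : Subgroup G) : Subgroup G where
  carrier := {y | y ∈ E ∧ ∀ g ∈ 𝐍 E, g * y * g⁻¹ ∈ 𝐂 (S ⊓ 𝐍 E)}
  one_mem' := ⟨one_mem _, fun g _ => by simp⟩
  mul_mem' := by
    rintro a b ⟨ha, ha'⟩ ⟨hb, hb'⟩
    exact ⟨mul_mem ha hb, fun g hg => by
      convert mul_mem (ha' g hg) (hb' g hg) using 1; group⟩
  inv_mem' := by
    rintro a ⟨ha, ha'⟩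
    exact ⟨inv_mem ha, fun g hg => by convert inv_mem (ha' g hg) using 1; group⟩

theorem conj_mem_Z0 {S E : Subgroup G} {g y : G} (hg : g ∈ 𝐍 E) (hy : y ∈ Z0 S E) :
    g * y * g⁻¹ ∈ Z0 S E :=
  ⟨conj_mem_of_normalizes le_rfl hg hy.1, fun k hk => by
    convert hy.2 (k * g) (mul_mem hk hg) using 1; group⟩

theorem conj_mem_Z0_cj {S E : Subgroup G} {n y : G} (hn : n ∈ 𝐍 S) (hy : y ∈ Z0 S E) :
    n * y * n⁻¹ ∈ Z0 S (n •ᶜ E) := by
  refine ⟨conj_mem_cj hy.1, fun g hg => ?_⟩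
  rw [← cj_normalizer] at hg ⊢
  rw [← cj_eq_of_mem_normalizer hn, ← cj_inf, ← cj_centralizer, mem_cj]
  convert hy.2 _ (mem_cj.1 hg) using 1
  group

/-- `E = ⟨x, z⟩ × Z₀` and `N(E)` induces `S₃` on `⟨x, z⟩`. -/
structure Tp (S E : Subgroup G) (x z : G) : Prop where
  ess : Ess S E
  xE : x ∈ E
  zE : z ∈ E
  x2 : x * x = 1
  z2 : z * z = 1
  z1 : z ≠ 1
  cx : ∀ s ∈ S, s * x = x * s → s ∈ E
  act : ∀ t ∈ S ⊓ 𝐍 E, t ∉ E → t * x * t⁻¹ = x * z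
  cz : z ∈ 𝐂 (S ⊓ 𝐍 E)
  nsq : ∀ e ∈ E, e * e ≠ z
  cls : ∀ g ∈ 𝐍 E, g * z * g⁻¹ = z ∨ g * z * g⁻¹ = x ∨ g * z * g⁻¹ = x * z
  conj : ∃ g ∈ 𝐍 E, g * z * g⁻¹ = x
  z0 : z ∉ Z0 S E
  dec : ∀ e ∈ E, e ∈ 𝐂 (S ⊓ 𝐍 E) → e ∈ Z0 S E ∨ z * e ∈ Z0 S E
  dec' : ∀ e ∈ E, e ∈ 𝐂 (S ⊓ 𝐍 E) ∨ x * e ∈ 𝐂 (S ⊓ 𝐍 E)
  fus : ∀ g ∈ 𝐍 E, ∃ n, (n ∈ 𝐍 E ∧ n ∈ 𝐍 S) ∧ ∀ y ∈ Z0 S E, g * y * g⁻¹ = n * y * n⁻¹

variable [Finite G] {S E F : Subgroup G}

theorem Ess.exists_tp (hU : Uq S) (h : Ess S E) {a z : G} (ha : a ∈ S ⊓ 𝐍 E) (haE : a ∉ E)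
    (ha2 : a * a ∈ E) (hz : z ∈ E) (z2 : z * z = 1) (z1 : z ≠ 1) (haz : a * z = z * a)
    (hc : ∀ e ∈ E, ⁅e, a⁆ = 1 ∨ ⁅e, a⁆ = z) : ∃ x, Tp S E x z := by
  have hA : zpowers a ≤ stab2 E (zpowers z) := zpowers_le.2
    ⟨fun d hd => (by
      obtain ⟨j, rfl⟩ := mem_zpowers_iff.1 hd; exact (Commute.zpow_left haz.symm j).eq),
    fun e he => (hc e he).elim (fun e' => e' ▸ one_mem _) fun e' => e' ▸ mem_zpowers z⟩
  have hCA : ∀ e, e ∈ 𝐂 (zpowers a) ↔ ⁅e, a⁆ = 1 := fun e => by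
    rw [commutatorElement_eq_one_iff_mul_comm]
    exact ⟨fun f => (f a (mem_zpowers a)).symm, fun f b hb => by
      obtain ⟨j, rfl⟩ := mem_zpowers_iff.1 hb; exact (Commute.zpow_left f.symm j).eq⟩
  have hi : ∀ v ∈ E, ∀ w ∈ E, v ∉ 𝐂 (zpowers a) → w ∉ 𝐂 (zpowers a) → v * w ∈ 𝐂 (zpowers a) := by
    intro v hv w hw h1 h2
    rw [hCA] at h1 h2 ⊢
    have e : ⁅v * w, a⁆ = v * ⁅w, a⁆ * v⁻¹ * ⁅v, a⁆ := by simp only [commutatorElement_def]; group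
    rw [e, (hc v hv).resolve_left h1, (hc w hw).resolve_left h2, h.comm v hv z hz,
      mul_inv_cancel_right, z2]
  have o : Off S E (zpowers a) := by
    refine ⟨zpowers_le.2 ha, fun e => haE (e (mem_zpowers a)),
      commutator_le.2 fun v hv b hb c hc' => ((hA hc').1 _ ((hA hb).2 v (h.om_le hv))).symm, ?_⟩
    have h0 : E.relIndex (zpowers a) ≠ 0 := index_ne_zero_of_finite
    have h1 : E.relIndex (zpowers a) ≠ 1 := fun e => haE (relIndex_eq_one.1 e (mem_zpowers a))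
    have h2 : (𝐂 (zpowers a)).relIndex (Ω E) ≤ 2 :=
      relIndex_le_two_iff.2 fun v hv w hw => hi v (h.om_le hv) w (h.om_le hw)
    rw [← card_inf_mul_relIndex (𝐂 (zpowers a)) (Ω E), mul_comm]
    exact Nat.mul_le_mul_right _ (by omega)
  have hA2 : ∀ b ∈ zpowers a, b ∈ E ∨ a⁻¹ * b ∈ E := fun b hb => by
    obtain ⟨j, rfl⟩ := mem_zpowers_iff.1 hb
    have : ∀ i : ℤ, a ^ (2 * i) ∈ E := fun i => by
      rw [zpow_mul, zpow_two]; exact zpow_mem ha2 i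
    obtain ⟨i, rfl | rfl⟩ := Int.even_or_odd' j
    · exact Or.inl (this i)
    · exact Or.inr (by convert this i using 1; group)
  have hT : ∀ t ∈ S ⊓ 𝐍 E, t ∈ E ∨ a⁻¹ * t ∈ E := fun t ht => by
    obtain ⟨b, hb, e⟩ := o.exists_mul hU h ht
    exact (hA2 b hb).imp (fun f => by simpa using mul_mem f (inv_mem e))
      fun f => by simpa [mul_assoc] using mul_mem f (inv_mem e)
  have hCT : ∀ e ∈ E, e ∈ 𝐂 (zpowers a) → e ∈ 𝐂 (S ⊓ 𝐍 E) := fun e he f t ht => by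
    rcases hT t ht with f' | f'
    · exact h.comm t f' e he
    · calc t * e = a * (a⁻¹ * t * e) := by group
        _ = a * e * (a⁻¹ * t) := by rw [h.comm _ f' e he]; group
        _ = _ := by rw [f a (mem_zpowers a)]; group
  have hTC : 𝐂 (S ⊓ 𝐍 E) ≤ 𝐂 (zpowers a) := centralizer_le (zpowers_le.2 ha)
  obtain ⟨w, hw, hwa⟩ : ∃ w ∈ Ω E, w ∉ 𝐂 (zpowers a) := by
    by_contra hn
    push Not at hn
    exact haE (h.cent_om hU ha.1 fun v hv hv2 =>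
      (hn v (h.mem_om.2 ⟨hv, hv2⟩) a (mem_zpowers a)).symm)
  have hwz : ⁅w, a⁆ = z := (hc w (h.om_le hw)).resolve_left fun e => hwa ((hCA w).2 e)
  have hnd : ∀ g ∈ 𝐍 E, g ∉ MM S E → g⁻¹ * z * g ∉ 𝐂 (zpowers a) := fun g hg hgM e =>
    hwa (o.nondeg hU h hg hgM (mem_zpowers a) haE hw (hwz ▸ e))
  obtain ⟨y, hy, hyM, hyA⟩ := o.exists_gen hU h
  have hx : y * z * y⁻¹ ∉ 𝐂 (zpowers a) := by
    simpa using hnd y⁻¹ (inv_mem hy) fun e => hyM (by simpa using inv_mem e)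
  have hxE : y * z * y⁻¹ ∈ E := conj_mem_of_normalizes le_rfl hy hz
  have hx2 : y * z * y⁻¹ * (y * z * y⁻¹) = 1 := by
    calc _ = y * (z * z) * y⁻¹ := by group
      _ = 1 := by rw [z2]; group
  obtain ⟨x, hxy⟩ : ∃ x, y * z * y⁻¹ = x := ⟨_, rfl⟩
  rw [hxy] at hx hxE hx2
  have hact : ∀ t ∈ S ⊓ 𝐍 E, t ∉ E → t * x * t⁻¹ = x * z := fun t ht htE => by
    have h1 := (hc x hxE).resolve_left fun e => hx ((hCA x).2 e)
    have h2 := (hT t ht).resolve_left htE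
    calc t * x * t⁻¹ = a * (a⁻¹ * t * x) * t⁻¹ := by group
      _ = a * x * a⁻¹ := by rw [h.comm _ h2 x hxE]; group
      _ = x * ⁅x, a⁆ := by
        rw [commutatorElement_def, inv_eq_of_mul_eq_one_right hx2, ← mul_assoc, ← mul_assoc,
          ← mul_assoc, hx2, one_mul]
      _ = _ := by rw [h1]
  have hzT : z ∈ 𝐂 (S ⊓ 𝐍 E) := hCT z hz ((hCA z).2 (commutatorElement_eq_one_iff_mul_comm.2 haz.symm))
  have hMz : ∀ m ∈ MM S E, m * z * m⁻¹ = z := fun m hm => by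
    obtain ⟨n, hn, c, hc', rfl⟩ := mem_MM.1 hm
    have h1 : n * a * n⁻¹ ∈ S ⊓ 𝐍 E :=
      ⟨conj_mem_of_normalizes le_rfl hn.2 ha.1, conj_mem_of_normalizes le_normalizer hn.1 ha.2⟩
    have h2 := (hT _ h1).resolve_left fun e => haE ((mem_normalizer_iff.1 hn.1 a).2 e)
    have h3 : n * w * n⁻¹ ∈ E := conj_mem_of_normalizes le_rfl hn.1 (h.om_le hw)
    have h4 : n * z * n⁻¹ = ⁅n * w * n⁻¹, a⁆ := by
      calc n * z * n⁻¹ = n * w * n⁻¹ * a * (a⁻¹ * (n * a * n⁻¹) * (n * w * n⁻¹)⁻¹) *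
            (n * a * n⁻¹)⁻¹ := by rw [← hwz, commutatorElement_def]; group
        _ = _ := by rw [h.comm _ h2 _ (inv_mem h3), commutatorElement_def]; group
    have h5 : n * c * z * (n * c)⁻¹ = n * z * n⁻¹ := by rw [mul_assoc n, ← hc' z hz]; group
    rw [h5]
    refine ((hc _ h3).resolve_left fun e => z1 ?_) ▸ h4
    rw [← h4] at e
    simpa using e
  have hMC : ∀ m ∈ MM S E, ∀ e ∈ E, e ∈ 𝐂 (S ⊓ 𝐍 E) → m * e * m⁻¹ ∈ 𝐂 (S ⊓ 𝐍 E) := by
    intro m hm e he f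
    obtain ⟨n, hn, c, hc', rfl⟩ := mem_MM.1 hm
    have h5 : n * c * e * (n * c)⁻¹ = n * e * n⁻¹ := by rw [mul_assoc n, ← hc' e he]; group
    rw [h5]
    exact conj_mem_of_normalizes (le_normalizer_centralizer (CL.MSS.le_normalizer_inf
      (H := 𝐍 E ⊓ 𝐍 S) inf_le_right (inf_le_left.trans le_normalizer))) hn f
  have hdc : ∀ g ∈ 𝐍 E, g ∉ MM S E → ∃ b ∈ zpowers a, ∃ m ∈ MM S E, g = b * y * m :=
    fun g hg hgM => by
      obtain ⟨b, hb, e⟩ := o.trans hU h hy hyM hg hgM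
      exact ⟨b, hb, _, inv_mem e, by group⟩
  have hcy : ∀ e, e ∈ 𝐂 (zpowers a) → y⁻¹ * e * y ∈ 𝐂 (zpowers a) → y * e = e * y := by
    intro e h1 h2
    have : zpowers a ⊔ y •ᶜ zpowers a ≤ centralizer {e} := by
      refine sup_le (fun b hb => mem_centralizer_singleton_iff.2 (h1 b hb))
        (cj_le_iff_forall.2 fun b hb => mem_centralizer_singleton_iff.2 ?_)
      calc y * b * y⁻¹ * e = y * (b * (y⁻¹ * e * y)) * y⁻¹ := by group
        _ = _ := by rw [h2 b hb]; group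
    exact mem_centralizer_singleton_iff.1 (this hyA)
  have hZ0 : ∀ e ∈ E, e ∈ 𝐂 (zpowers a) → y⁻¹ * e * y ∈ 𝐂 (zpowers a) → e ∈ Z0 S E := by
    intro e he h1 h2
    refine ⟨he, fun g hg => ?_⟩
    by_cases hgM : g ∈ MM S E
    · exact hMC g hgM e he (hCT e he h1)
    obtain ⟨b, hb, m, hm, e'⟩ := hdc g⁻¹ (inv_mem hg) fun f => hgM (by simpa using inv_mem f)
    convert hMC m⁻¹ (inv_mem hm) e he (hCT e he h1) using 1
    calc g * e * g⁻¹ = m⁻¹ * y⁻¹ * b⁻¹ * (e * b) * y * m := by rw [← inv_inv g, e']; group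
      _ = m⁻¹ * y⁻¹ * (e * y) * m := by rw [← h1 b hb]; group
      _ = _ := by rw [← hcy e h1 h2]; group
  refine ⟨x, h, hxE, hz, hx2, z2, z1, fun s hs hsx => ?_, hact, hzT, fun e he f => hx ?_,
    fun g hg => ?_, ⟨y, hy, hxy⟩, fun f => hx (hxy ▸ hTC (f.2 y hy)), fun e he f => ?_,
    fun e he => ?_, fun g hg => ?_⟩
  · refine h.le_of_inf hU (K := S ⊓ centralizer {x}) (le_inf h.le fun e he =>
      mem_centralizer_singleton_iff.2 (h.comm e he x hxE)) inf_le_left (fun t ht htN => ?_)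
      ⟨hs, mem_centralizer_singleton_iff.2 hsx⟩
    by_contra htE
    have := hact t ⟨ht.1, htN⟩ htE
    rw [mem_centralizer_singleton_iff.1 ht.2, mul_inv_cancel_right] at this
    exact z1 (by simpa using this)
  · have h1 : x = y * e * y⁻¹ * (y * e * y⁻¹) := by rw [← hxy, ← f]; group
    have h2 : y * e * y⁻¹ ∈ E := conj_mem_of_normalizes le_rfl hy he
    rw [h1]
    by_cases h3 : y * e * y⁻¹ ∈ 𝐂 (zpowers a)
    · exact mul_mem h3 h3
    · exact hi _ h2 _ h2 h3 h3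
  · by_cases hgM : g ∈ MM S E
    · exact Or.inl (hMz g hgM)
    obtain ⟨b, hb, m, hm, rfl⟩ := hdc g hg hgM
    have h1 : b * y * m * z * (b * y * m)⁻¹ = b * x * b⁻¹ := by
      rw [← hxy]; nth_rewrite 2 [← hMz m hm]; group
    rw [h1]
    refine Or.inr ((em (b ∈ E)).imp (fun f => ?_) (hact b (o.le hb)))
    rw [h.comm b f x hxE, mul_inv_cancel_right]
  · by_cases h1 : y⁻¹ * e * y ∈ 𝐂 (zpowers a)
    · exact Or.inl (hZ0 e he (hTC f) h1)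
    · refine Or.inr (hZ0 _ (mul_mem hz he) (hTC (mul_mem hzT f)) ?_)
      convert hi _ (conj_mem_of_normalizes' le_rfl hy hz) _ (conj_mem_of_normalizes' le_rfl hy he)
        (hnd y hy hyM) h1 using 1
      group
  · exact (em (e ∈ 𝐂 (zpowers a))).imp (hCT e he) fun f => hCT _ (mul_mem hxE he) (hi x hxE e he hx f)
  · have key : ∀ m ∈ MM S E, ∃ n, (n ∈ 𝐍 E ∧ n ∈ 𝐍 S) ∧ ∀ u ∈ E, m * u * m⁻¹ = n * u * n⁻¹ :=
      fun m hm => by
        obtain ⟨n, hn, c, hc', rfl⟩ := mem_MM.1 hm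
        exact ⟨n, hn, fun u hu => by rw [mul_assoc n, ← hc' u hu]; group⟩
    by_cases hgM : g ∈ MM S E
    · obtain ⟨n, hn, f⟩ := key g hgM
      exact ⟨n, hn, fun u hu => f u hu.1⟩
    obtain ⟨b, hb, m, hm, rfl⟩ := hdc g hg hgM
    obtain ⟨n, hn, f⟩ := key m hm
    refine ⟨n, hn, fun u hu => ?_⟩
    have h1 := conj_mem_Z0 hn.1 hu
    have h2 : n * u * n⁻¹ ∈ 𝐂 (zpowers a) := hTC (by simpa using h1.2 1 (one_mem _))
    have h3 := hcy _ h2 (hTC (by simpa using h1.2 y⁻¹ (inv_mem hy)))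
    calc b * y * m * u * (b * y * m)⁻¹ = b * (y * (m * u * m⁻¹)) * y⁻¹ * b⁻¹ := by group
      _ = b * (n * u * n⁻¹) * b⁻¹ := by rw [f u hu.1, h3]; group
      _ = _ := by rw [h2 b hb]; group

/-- A pair with `q = 2`. -/
theorem Pr.exists_tp (hU : Uq S) (h : Pr S E F) (hb : F.relIndex (Ω E) ≤ 2) :
    ∃ x z, Tp S E x z := by
  obtain ⟨a, ha, haE⟩ := h.oE.exists_mem hU h.hE
  obtain ⟨v, hv, hvF⟩ := h.oF.exists_mem hU h.hF
  have haT := h.oE.le ha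
  have hvT := h.E_le (h.hE.om_le hv)
  have hz := h.comm_mem_E hU hvT haT
  have hz' := h.comm_mem_F hU hvT haT
  have ha2 := (h.hF.mem_om.1 ha).2
  refine ⟨_, ⁅v, a⁆, (h.hE.exists_tp hU haT haE (ha2 ▸ one_mem _) hz
    (h.hE.mem_om.1 (comm_mem hv (h.hE.norm_om haT.2))).2
    (fun e => hvF (h.mem_of_comm_eq_sq hU hv ha haE (one_mem _) (by rw [e, mul_one])))
    (h.cen hU hz hz' haT).symm fun e he => ?_).choose_spec⟩
  obtain ⟨u, hu, k, hk, hk', rfl⟩ := h.decompE hU he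
  have key : ∀ u k, k ∈ F → ⁅u * k, a⁆ = ⁅u, a⁆ := fun u k hk' => by
    calc ⁅u * k, a⁆ = u * (k * a) * k⁻¹ * u⁻¹ * a⁻¹ := by rw [commutatorElement_def]; group
      _ = _ := by rw [h.hF.comm k hk' a (h.hF.om_le ha), commutatorElement_def]; group
  rw [key u k hk']
  by_cases huF : u ∈ F
  · exact Or.inl (commutatorElement_eq_one_iff_mul_comm.2 (h.hF.comm u huF a (h.hF.om_le ha)))
  · refine Or.inr ?_
    rw [← key v _ (relIndex_le_two_iff.1 hb v hv u hu hvF huF), ← mul_assoc,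
      (h.hE.mem_om.1 hv).2, one_mul]

namespace Tp
variable {x z : G} (h : Tp S E x z)
include h

theorem conj_eq {t : G} (ht : t ∈ S ⊓ 𝐍 E) : t * x * t⁻¹ = x ∨ t * x * t⁻¹ = x * z :=
  (em (t ∈ E)).imp (fun f => by rw [h.ess.comm t f x h.xE, mul_inv_cancel_right]) (h.act t ht)

theorem mem_T {t : G} (ht : t ∈ S) (hc : t * x * t⁻¹ * x = x * (t * x * t⁻¹)) : t ∈ S ⊓ 𝐍 E :=
  ⟨ht, h.ess.mem_norm_of_conj h.cx ht
    (h.cx _ (mul_mem (mul_mem ht (h.ess.le h.xE)) (inv_mem ht)) hc)⟩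

theorem dx (hU : Uq S) (hn : ¬ S ≤ 𝐍 E) : Dx S x z where
  pg := hU.syl.pgroup
  xS := h.ess.le h.xE
  x2 := h.x2
  z1 := h.z1
  two t ht hc := h.conj_eq (h.mem_T ht hc)
  cz t ht hc := h.cz t (h.mem_T ht hc)
  nsq e he hc := h.nsq e (h.cx e he hc)
  nc := by
    by_contra hc
    push Not at hc
    exact hn fun t ht => (h.mem_T ht (hc t ht)).2

/-- If `E` is normal in `S`, then `S` has class two. -/
theorem class_two (hn : S ≤ 𝐍 E) {s t u : G} (hs : s ∈ S) (ht : t ∈ S) (hu : u ∈ S) :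
    ⁅s, t⁆ * u = u * ⁅s, t⁆ := by
  have hT : ∀ s ∈ S, s ∈ S ⊓ 𝐍 E := fun s hs => ⟨hs, hn hs⟩
  have hz : ∀ d ∈ zpowers z, ∀ s ∈ S, s * d = d * s := fun d hd s hs => by
    obtain ⟨j, rfl⟩ := mem_zpowers_iff.1 hd
    exact (Commute.zpow_right (h.cz s (hT s hs)) j).eq
  have hx : ∀ s ∈ S, ⁅x, s⁆ ∈ zpowers z := fun s hs => by
    have e : ⁅x, s⁆ = x * (s * x * s⁻¹) := by
      rw [commutatorElement_def, inv_eq_of_mul_eq_one_right h.x2]; group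
    rcases h.conj_eq (hT s hs) with f | f
    · rw [e, f, h.x2]; exact one_mem _
    · rw [e, f, ← mul_assoc, h.x2, one_mul]; exact mem_zpowers z
  have hE : ∀ e ∈ E, ∀ s ∈ S, ⁅e, s⁆ ∈ zpowers z := fun e he s hs => by
    rcases h.dec' e he with f | f
    · rw [commutatorElement_eq_one_iff_mul_comm.2 (f s (hT s hs)).symm]; exact one_mem _
    · convert hx s hs using 1
      calc ⁅e, s⁆ = x⁻¹ * (x * e * s) * (x * e)⁻¹ * x * s⁻¹ := by rw [commutatorElement_def]; group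
        _ = _ := by
          rw [← f s (hT s hs), commutatorElement_def, inv_eq_of_mul_eq_one_right h.x2]; group
  refine (hz _ ?_ u hu).symm
  by_cases hsE : s ∈ E
  · exact hE s hsE t ht
  by_cases htE : t ∈ E
  · rw [← commutatorElement_inv]; exact inv_mem (hE t htE s hs)
  have h1 : s⁻¹ * t ∈ E := h.cx _ (mul_mem (inv_mem hs) ht) (by
    calc s⁻¹ * t * x = s⁻¹ * (t * x * t⁻¹) * t := by group
      _ = _ := by rw [h.act t (hT t ht) htE, ← h.act s (hT s hs) hsE]; group)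
  have h2 := inv_mem (hE _ h1 s hs)
  have e : ⁅s, t⁆ = s * ⁅s⁻¹ * t, s⁆⁻¹ * s⁻¹ := by simp only [commutatorElement_def]; group
  rw [e, hz _ h2 s hs, mul_inv_cancel_right]
  exact h2

end Tp

end CL.AInt
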