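import Mathlib
import Cfsg.Agent.INV.AI.Two

/-!
The case `q = 2`: all essential subgroups have `q = 2`, and the non-central involutions attached to
them form at most two classes in `S`.
-/

set_option autoImplicit false
set_option linter.unusedSectionVars false

namespace CL.AInt

open Cfsg Subgroup CL.MSS CL.Th CL.Push
open scoped commutatorElement

variable {G : Type*} [Group G]

local notation "𝐂" A:max => centralizer ((A : Subgroup G) : Set G)
local notation "𝐍" A:max => normalizer ((A : Subgroup G) : Set G)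
local notation "Ω" A:max => omegaOne 2 A

theorem odd_of_nsq {r u : G} (hu : u ∈ zpowers r) (h : ∀ d ∈ zpowers r, u ≠ d * d) :
    ∃ j : ℤ, Odd j ∧ u = r ^ j := by
  obtain ⟨j, rfl⟩ := mem_zpowers_iff.1 hu
  refine ⟨j, (Int.even_or_odd j).resolve_left ?_, rfl⟩
  rintro ⟨i, rfl⟩
  exact h _ (zpow_mem (mem_zpowers r) i) (zpow_add r i i)

theorem zpowers_odd {r : G} {k : ℕ} (hk : r ^ 2 ^ k = 1) {j : ℤ} (hj : Odd j) :
    zpowers (r ^ j) = zpowers r := by
  refine le_antisymm (zpowers_le.2 (zpow_mem (mem_zpowers r) j))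
    (zpowers_le.2 (mem_zpowers_zpow_iff.2 ?_))
  obtain ⟨i, -, hi⟩ := (Nat.dvd_prime_pow Nat.prime_two).1 (orderOf_dvd_of_pow_eq_one hk)
  rw [hi, ← Int.isCoprime_iff_gcd_eq_one]
  push_cast
  exact (Int.isCoprime_two_right.2 hj).pow_right

theorem exists_sq_mem {X : Subgroup G} {r u : G} {k : ℕ} (hu : u ∈ zpowers r) (hk : u ^ 2 ^ k = 1)
    (h : u ∉ X) : ∃ v ∈ zpowers r, v ∉ X ∧ v * v ∈ X := by
  induction k generalizing u with
  | zero => rw [pow_zero, pow_one] at hk; exact absurd (hk ▸ one_mem X) h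
  | succ k ih =>
    by_cases h2 : u * u ∈ X
    · exact ⟨u, hu, h, h2⟩
    exact ih (mul_mem hu hu) (by rw [← pow_two, ← pow_mul, ← pow_succ']; exact hk) h2

variable [Finite G] {S X X' : Subgroup G} {x y z r : G}

theorem Dr.exists_tp (hU : Uq S) (h : Dr S x z r) (hX : Ess S X) : ∃ y, Tp S X y z := by
  obtain ⟨w, hw, w1, z2⟩ := h.exists_sq
  have hzX : z ∈ X := hX.cent z (h.le h.z_mem) fun e he => h.dx.cen (hX.le he)
  by_cases hle : r ∈ X
  · exfalso
    have hU' : zpowers r ≤ X := zpowers_le.2 hle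
    have hx : x ∈ X := hX.cent_om hU h.dx.xS fun v hv hv2 => by
      have hvi : v⁻¹ = v := inv_eq_of_mul_eq_one_right hv2
      have hu := (h.cls _).1 ⟨v, hX.le hv, rfl⟩
      obtain ⟨u, e⟩ : ∃ u, x * (v * x * v⁻¹) = u := ⟨_, rfl⟩
      rw [e] at hu
      have e1 : v * x * v⁻¹ = x * u := by rw [← e, ← mul_assoc, h.dx.x2, one_mul]
      have hvu := hX.comm v hv u (hU' hu)
      have e2 : u * u = 1 := by
        refine mul_left_cancel (a := x) ?_
        calc x * (u * u) = v * x * v⁻¹ * u := by rw [e1, mul_assoc]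
          _ = v * (x * u) * v⁻¹ := by rw [hvi, mul_assoc, hvu]; group
          _ = v * v * x * (v * v)⁻¹ := by rw [← e1]; group
          _ = _ := by rw [hv2]; group
      rcases h.eq_of_sq hu e2 with rfl | rfl
      · rw [mul_one] at e1
        exact mul_inv_eq_iff_eq_mul.1 e1
      · refine absurd ?_ (h.dx.nsq (v * w) (mul_mem (hX.le hv) (h.le hw)) ?_)
        · rw [mul_assoc, ← mul_assoc w, ← hX.comm v hv w (hU' hw), ← w1]
          calc v * (v * w * w) = v * v * (w * w) := by group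
            _ = _ := by rw [hv2, one_mul]
        · have e3 := mul_eq_of_inv h.dx.x2 (h.inv' (inv_mem hw))
          rw [inv_inv] at e3
          calc v * w * x = v * x * v⁻¹ * v * w⁻¹ := by rw [mul_assoc, e3]; group
            _ = x * (w * w * v) * w⁻¹ := by rw [e1, w1]; group
            _ = x * (w * (v * w)) * w⁻¹ := by rw [mul_assoc w w, hX.comm v hv w (hU' hw)]
            _ = x * (w * v) := by group
            _ = _ := by rw [hX.comm v hv w (hU' hw)]
    refine h.r2 ?_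
    nth_rewrite 2 [← inv_inv r]
    rw [← h.inv, hX.comm x hx r hle, mul_assoc r, h.dx.x2, mul_one, mul_inv_cancel]
  obtain ⟨k, hk⟩ := isPGroup_iff_forall_mem.1 h.dx.pg r h.rS
  obtain ⟨u, hu, huX, hu2⟩ := exists_sq_mem (mem_zpowers r) hk hle
  have hc : ∀ e ∈ X, ⁅e, u⁆ ∈ X ∧ ⁅e, u⁆ ∈ zpowers r := fun e he => by
    obtain ⟨j, hj⟩ := mem_zpowers_iff.1 hu
    obtain ⟨m, hm⟩ := mem_zpowers_iff.1 (conj_mem_of_normalizes h.le_norm (hX.le he) (mem_zpowers r))
    have e1 : e * u * e⁻¹ = u ^ m := by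
      rw [← hj, ← conj_zpow, ← hm, ← zpow_mul, ← zpow_mul, mul_comm]
    have e2 : ∀ i : ℤ, u ^ (2 * i) ∈ X := fun i => by rw [zpow_mul, zpow_two]; exact zpow_mem hu2 i
    rw [commutatorElement_def, e1]
    refine ⟨?_, mul_mem (zpow_mem hu m) (inv_mem hu)⟩
    obtain ⟨i, rfl | rfl⟩ := Int.even_or_odd' m
    · refine absurd ?_ huX
      have := mul_mem (mul_mem (inv_mem he) (e1 ▸ e2 i)) he
      simpa [mul_assoc] using this
    · convert e2 i using 1; group
  refine hX.exists_tp hU ⟨h.le hu, mem_normalizer_of_cj_le (cj_le_iff_forall.2 fun e he => ?_)⟩ huX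
    hu2 hzX z2 h.dx.z1 (h.dx.cen (h.le hu)) fun e he => h.eq_of_sq (hc e he).2 ?_
  · convert mul_mem (inv_mem (hc e he).1) he using 1
    rw [commutatorElement_def]; group
  · calc ⁅e, u⁆ * ⁅e, u⁆ = ⁅e, u⁆ * (⁅e, u⁆ * u) * u⁻¹ := by group
      _ = e * (u * u) * e⁻¹ * (u * u)⁻¹ := by
        rw [comm_zp (hc e he).2 hu, commutatorElement_def]; group
      _ = 1 := by rw [hX.comm e he _ hu2]; group

theorem Tp.conj_of_even (h : Tp S X x z) (hr : Dr S x z r) (h' : Tp S X' y z) {d : G}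
    (hd : d ∈ zpowers r) (e : y * x * y = x * (d * d)) : ∃ t ∈ S, t * x * t⁻¹ = y := by
  have hyS := h'.ess.le h'.xE
  have h1 := hr.dx.comm_of_even hr.rS hr.inv (fun y => (hr.cls y).2) hyS h'.x2 hd (by
    nth_rewrite 2 [← inv_eq_of_mul_eq_one_right h'.x2]
    exact conj_mem_of_normalizes hr.le_norm hyS hd) e
  obtain ⟨t, ht, e1⟩ := hr.conj_mul hd
  have h2 : t⁻¹ * y * t ∈ X := h.cx _ (mul_mem (mul_mem (inv_mem ht) hyS) ht) (by
    calc t⁻¹ * y * t * x = t⁻¹ * (y * (t * x * t⁻¹)) * t := by group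
      _ = t⁻¹ * (t * x * t⁻¹ * y) * t := by rw [e1, h1]
      _ = _ := by group)
  have h3 : X = t⁻¹ •ᶜ X' := h.ess.eq_of_le (h'.ess.cj (le_normalizer (inv_mem ht))) fun a ha =>
    mem_cj.2 (h'.cx _ (mul_mem (mul_mem (inv_mem (inv_mem ht)) (h.ess.le ha)) (inv_mem ht)) (by
      calc t⁻¹⁻¹ * a * t⁻¹ * y = t * (a * (t⁻¹ * y * t)) * t⁻¹ := by group
        _ = _ := by rw [h.ess.comm a ha _ h2]; group))
  obtain ⟨g, hg, e2⟩ := h'.conj
  have h4 : t⁻¹ * g * t ∈ 𝐍 X := by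
    rw [h3, ← cj_normalizer, mem_cj]; simpa [mul_assoc] using hg
  have e3 : t⁻¹ * g * t * z * (t⁻¹ * g * t)⁻¹ = t⁻¹ * y * t := by
    rw [mul_assoc _ t, hr.dx.cen ht, ← e2]; group
  have h5 := h.cls _ h4
  rw [e3] at h5
  rcases h5 with f | f | f
  · refine absurd (fun s hs => h'.cx s hs ?_) h'.ess.ne
    have : y = z := by
      calc y = t * (t⁻¹ * y * t) * t⁻¹ := by group
        _ = z := by rw [f, hr.dx.cen ht, mul_inv_cancel_right]
    rw [this, hr.dx.cen hs]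
  · exact ⟨t, ht, by rw [← f]; group⟩
  · obtain ⟨s, hs, e4⟩ := hr.conj_mul hr.z_mem
    refine ⟨t * s, mul_mem ht hs, ?_⟩
    calc t * s * x * (t * s)⁻¹ = t * (s * x * s⁻¹) * t⁻¹ := by group
      _ = _ := by rw [e4, ← f]; group

theorem Tp.odd_of_not_conj (h : Tp S X x z) (hr : Dr S x z r) (h' : Tp S X' y z)
    (hn : ¬ ∃ t ∈ S, t * x * t⁻¹ = y) : ∃ j : ℤ, Odd j ∧ y * x * y = x * r ^ j := by
  have hu := (hr.cls _).1 ⟨y, h'.ess.le h'.xE, rfl⟩
  rw [inv_eq_of_mul_eq_one_right h'.x2] at hu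
  obtain ⟨j, hj, e⟩ := odd_of_nsq hu fun d hd e => hn (h.conj_of_even hr h' hd (by
    rw [← e, ← mul_assoc, h.x2, one_mul]))
  exact ⟨j, hj, by rw [← e, ← mul_assoc, h.x2, one_mul]⟩

theorem Tp.zpowers_eq (h : Tp S X x z) (hr : Dr S x z r) (h' : Tp S X' y z)
    (hn : ¬ ∃ t ∈ S, t * x * t⁻¹ = y) : zpowers r = zpowers (x * y * (x * y)) := by
  obtain ⟨j, hj, e⟩ := h.odd_of_not_conj hr h' hn
  obtain ⟨k, hk⟩ := isPGroup_iff_forall_mem.1 hr.dx.pg r hr.rS
  rw [← zpowers_odd hk hj]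
  congr 1
  calc r ^ j = x * x * r ^ j := by rw [h.x2, one_mul]
    _ = _ := by rw [mul_assoc, ← e]; group

theorem Tp.zpowers_eq' {r' : G} (h : Tp S X x z) (hr : Dr S x z r) (h' : Tp S X' y z)
    (hr' : Dr S y z r') (hn : ¬ ∃ t ∈ S, t * x * t⁻¹ = y) : zpowers r' = zpowers r := by
  rw [h.zpowers_eq hr h' hn, h'.zpowers_eq hr' h fun ⟨t, ht, e⟩ =>
    hn ⟨t⁻¹, inv_mem ht, by rw [← e]; group⟩, ← zpowers_inv]
  congr 1
  simp only [mul_inv_rev, inv_eq_of_mul_eq_one_right h.x2, inv_eq_of_mul_eq_one_right h'.x2]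

/-- At most two classes. -/
theorem Tp.conj_of_not_conj {X'' : Subgroup G} {y' r' r'' : G} (h : Tp S X x z) (hr : Dr S x z r)
    (h' : Tp S X' y z) (hr' : Dr S y z r') (h'' : Tp S X'' y' z) (hr'' : Dr S y' z r'')
    (hn : ¬ ∃ t ∈ S, t * x * t⁻¹ = y) (hn' : ¬ ∃ t ∈ S, t * x * t⁻¹ = y') :
    ∃ t ∈ S, t * y * t⁻¹ = y' := by
  by_contra hc
  have e1 := h.zpowers_eq' hr h' hr' hn
  have e2 := h.zpowers_eq' hr h'' hr'' hn'
  obtain ⟨a, ha, f1⟩ := h.odd_of_not_conj hr h' hn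
  obtain ⟨b, hb, f2⟩ := h.odd_of_not_conj hr h'' hn'
  obtain ⟨k, hk⟩ := isPGroup_iff_forall_mem.1 hr.dx.pg r hr.rS
  obtain ⟨i, hi, f3⟩ := odd_of_nsq (r := r) (u := y * (y' * y * y')) (by
      have := (hr'.cls _).1 ⟨y', h''.ess.le h''.xE, rfl⟩
      rwa [e1, inv_eq_of_mul_eq_one_right h''.x2] at this)
    fun d hd e => hc (h'.conj_of_even hr' h'' (e1 ▸ hd) (by rw [← e, ← mul_assoc, h'.x2, one_mul]))
  have i1 : ∀ j : ℤ, y * r ^ j * y = (r ^ j)⁻¹ := fun j =>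
    hr'.inv' (e1 ▸ zpow_mem (mem_zpowers r) j)
  have i2 : ∀ j : ℤ, y' * r ^ j * y' = (r ^ j)⁻¹ := fun j =>
    hr''.inv' (e2 ▸ zpow_mem (mem_zpowers r) j)
  have key : ∀ j : ℤ, y * y' * (x * r ^ j) * (y' * y) = x * r ^ (a - b + j) := fun j => by
    calc y * y' * (x * r ^ j) * (y' * y) = y * (y' * x * (y' * y') * r ^ j * y') * y := by
          rw [h''.x2]; group
      _ = y * ((y' * x * y') * (y' * r ^ j * y')) * y := by group
      _ = y * x * (y * y) * r ^ (b - j) * y := by rw [f2, i2, h'.x2]; group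
      _ = (y * x * y) * (y * r ^ (b - j) * y) := by group
      _ = _ := by rw [f1, i1]; group
  have g1 : r ^ i * x * (r ^ i)⁻¹ = x * r ^ (a - b + (a - b)) := by
    rw [← f3, ← key (a - b)]
    have := key 0
    rw [add_zero, zpow_zero, mul_one] at this
    rw [← this]
    simp only [mul_inv_rev, inv_eq_of_mul_eq_one_right h'.x2, inv_eq_of_mul_eq_one_right h''.x2,
      mul_assoc]
  have g2 := mul_eq_of_inv hr.dx.x2 (hr.inv' (inv_mem (zpow_mem (mem_zpowers r) i)))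
  rw [inv_inv] at g2
  rw [g2, mul_assoc, mul_left_cancel_iff] at g1
  have g3 : (r * r) ^ (a - b + i) = 1 := by
    calc (r * r) ^ (a - b + i) = r ^ (a - b + (a - b)) * r ^ i * r ^ i := by
          rw [← zpow_two, ← zpow_mul]; group
      _ = 1 := by rw [← g1]; group
  have g4 := zpowers_odd (r := r * r) (k := k) (by rw [(Commute.refl r).mul_pow, hk, mul_one])
    ((ha.sub_odd hb).add_odd hi)
  rw [g3, zpowers_one_eq_bot, eq_comm, zpowers_eq_bot] at g4
  exact hr.r2 g4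

end CL.AInt
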