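import Mathlib
import Cfsg.Agent.INV.AI.Cls
import Cfsg.Agent.SOLV.Frattini
import Cfsg.Agent.PLOC.PFrattini

/-!
Simple groups with abelian Sylow 2-intersections and no strongly closed abelian subgroup.
-/

set_option autoImplicit false
set_option linter.unusedSectionVars false

namespace CL.AInt

open Cfsg Subgroup CL.MSS CL.Th CL.Push
open scoped commutatorElement

variable {G : Type*} [Group G]

local notation "𝐂" A:max => centralizer ((A : Subgroup G) : Set G)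
local notation "𝐍" A:max => normalizer ((A : Subgroup G) : Set G)
local notation "Ω" A:max => omegaOne 2 A

/-- The non-central involutions attached to the essential subgroups. -/
def XX (S : Subgroup G) (z : G) : Set G :=
  {a | a ≠ z ∧ ∃ X, Ess S X ∧ ∃ g ∈ 𝐍 X, g * z * g⁻¹ = a}

/-- All essential subgroups have `q = 2`. -/
structure Ctx (S : Subgroup G) (z : G) : Prop where
  hU : Uq S
  tp : ∀ X, Ess S X → ∃ x r, Tp S X x z ∧ Dr S x z r
  ex : ∃ X, Ess S X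

theorem pow_mul_inv_mem {K : Subgroup G} {k h : G} (hk : k ∈ K)
    (hh : ∀ y ∈ K, h * y * h⁻¹ ∈ K) (n : ℕ) : (k * h) ^ n * (h ^ n)⁻¹ ∈ K := by
  induction n with
  | zero => simp
  | succ n ih =>
    convert mul_mem hk (hh _ ih) using 1
    rw [pow_succ', pow_succ']; group

variable [Finite G] {S X : Subgroup G} {x z r : G}

theorem Tp.mem_XX (h : Tp S X x z) (hr : Dr S x z r) {t : G} (ht : t ∈ S) :
    t * x * t⁻¹ ∈ XX S z := by
  obtain ⟨g, hg, e⟩ := h.conj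
  refine ⟨fun f => h.ess.ne fun s hs => h.cx s hs ?_, _, h.ess.cj (le_normalizer ht), t * g * t⁻¹,
    by rw [← cj_normalizer]; exact conj_mem_cj hg, ?_⟩
  · have : x = z := by
      calc x = t⁻¹ * (t * x * t⁻¹) * t := by group
        _ = z := by rw [f, mul_assoc, ← hr.dx.cen ht, inv_mul_cancel_left]
    rw [this, hr.dx.cen hs]
  · rw [mul_assoc _ t⁻¹, hr.dx.cen (inv_mem ht), ← e]; group

theorem Tp.mul_mem_XX (h : Tp S X x z) (hr : Dr S x z r) {u : G} (hu : u ∈ zpowers r) :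
    x * u ∈ XX S z := let ⟨_, ht, e⟩ := hr.conj_mul hu; e ▸ h.mem_XX hr ht

namespace Ctx
variable (c : Ctx S z)
include c

theorem exists_good {a : G} (ha : a ∈ XX S z) :
    ∃ X x r, Tp S X x z ∧ Dr S x z r ∧ ∃ t ∈ S, t * x * t⁻¹ = a := by
  obtain ⟨h1, X, hX, g, hg, rfl⟩ := ha
  obtain ⟨x, r, h, hr⟩ := c.tp X hX
  refine ⟨X, x, r, h, hr, ?_⟩
  rcases (h.cls g hg).resolve_left h1 with e | e
  · exact ⟨1, one_mem _, by rw [e]; group⟩
  · exact e ▸ hr.conj_mul hr.z_mem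

theorem cen_z {n : G} (hn : n ∈ 𝐍 S) : n * z * n⁻¹ = z := by
  obtain ⟨X, hX⟩ := c.ex
  obtain ⟨x, r, h, hr⟩ := c.tp X hX
  obtain ⟨y, r', h', -⟩ := c.tp _ (hX.cj hn)
  obtain ⟨t, ht, htX⟩ := hX.exists_not_mem c.hU
  have ht' : n * t * n⁻¹ ∈ S ⊓ 𝐍 (n •ᶜ X) :=
    ⟨conj_mem_of_normalizes le_rfl hn ht.1, by rw [← cj_normalizer]; exact conj_mem_cj ht.2⟩
  have e1 : n * z * n⁻¹ = (n * x * n⁻¹)⁻¹ * (n * t * n⁻¹ * (n * x * n⁻¹) * (n * t * n⁻¹)⁻¹) := by
    calc n * z * n⁻¹ = n * x⁻¹ * (x * z) * n⁻¹ := by group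
      _ = _ := by rw [← h.act t ht htX]; group
  have hx' : n * x * n⁻¹ ∈ n •ᶜ X := conj_mem_cj h.xE
  have e0 : n * z * n⁻¹ ≠ 1 := fun e => h.z1 (by simpa using e)
  generalize n * t * n⁻¹ = s at ht' e1
  generalize n * x * n⁻¹ = e at hx' e1
  rcases h'.dec' e hx' with f | f
  · exact absurd (by rw [e1, f s ht']; group) e0
  · have e2 : s * e * s⁻¹ = (s * y * s⁻¹)⁻¹ * (y * e) := by
      calc s * e * s⁻¹ = (s * y * s⁻¹)⁻¹ * (s * (y * e)) * s⁻¹ := by group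
        _ = _ := by rw [f s ht']; group
    rcases h'.conj_eq ht' with f' | f'
    · exact absurd (by rw [e1, e2, f']; group) e0
    · rw [e1, e2, f', mul_inv_rev, mul_assoc, inv_mul_cancel_left,
        h'.ess.comm _ (inv_mem h'.zE) e hx', inv_mul_cancel_left, inv_eq_of_mul_eq_one_right h'.z2]

theorem conj_mem_XX {n a : G} (hn : n ∈ 𝐍 S) (ha : a ∈ XX S z) : n * a * n⁻¹ ∈ XX S z := by
  obtain ⟨h1, X, hX, g, hg, rfl⟩ := ha
  refine ⟨fun e => h1 ?_, _, hX.cj hn, n * g * n⁻¹, by rw [← cj_normalizer]; exact conj_mem_cj hg, ?_⟩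
  · simpa using e.trans (c.cen_z hn).symm
  · nth_rewrite 1 [← c.cen_z hn]; group

theorem tri {a b d : G} (ha : a ∈ XX S z) (hb : b ∈ XX S z) (hd : d ∈ XX S z) :
    (∃ t ∈ S, t * a * t⁻¹ = b) ∨ (∃ t ∈ S, t * a * t⁻¹ = d) ∨ ∃ t ∈ S, t * b * t⁻¹ = d := by
  obtain ⟨X1, x1, r1, h1, hr1, t1, ht1, rfl⟩ := c.exists_good ha
  obtain ⟨X2, x2, r2, h2, hr2, t2, ht2, rfl⟩ := c.exists_good hb
  obtain ⟨X3, x3, r3, h3, hr3, t3, ht3, rfl⟩ := c.exists_good hd
  have key : ∀ {u v s t : G}, s ∈ S → t ∈ S → (∃ w ∈ S, w * u * w⁻¹ = v) →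
      ∃ w ∈ S, w * (s * u * s⁻¹) * w⁻¹ = t * v * t⁻¹ := fun hs ht ⟨w, hw, e⟩ =>
    ⟨_, mul_mem (mul_mem ht hw) (inv_mem hs), by rw [← e]; group⟩
  by_cases e1 : ∃ t ∈ S, t * x1 * t⁻¹ = x2
  · exact Or.inl (key ht1 ht2 e1)
  by_cases e2 : ∃ t ∈ S, t * x1 * t⁻¹ = x3
  · exact Or.inr (Or.inl (key ht1 ht3 e2))
  exact Or.inr (Or.inr (key ht2 ht3 (h1.conj_of_not_conj hr1 h2 hr2 h3 hr3 e1 e2)))

theorem comm_of_odd {h a : G} (hh : h ∈ 𝐍 S) (ho : Odd (orderOf h)) (ha : a ∈ XX S z) :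
    a * h = h * a := by
  obtain ⟨X, x, r, hx, hr, t, ht, rfl⟩ := c.exists_good ha
  let K : Subgroup G :=
    { carrier := {n | n ∈ 𝐍 S ∧ ∃ t ∈ S, t * x * t⁻¹ = n * x * n⁻¹}
      one_mem' := ⟨one_mem _, 1, one_mem _, rfl⟩
      mul_mem' := by
        rintro m n ⟨hm, s, hs, e⟩ ⟨hn, t, ht, e'⟩
        refine ⟨mul_mem hm hn, m * t * m⁻¹ * s, mul_mem (conj_mem_of_normalizes le_rfl hm ht) hs, ?_⟩
        calc _ = m * t * m⁻¹ * (s * x * s⁻¹) * (m * t * m⁻¹)⁻¹ := by group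
          _ = m * (t * x * t⁻¹) * m⁻¹ := by rw [e]; group
          _ = _ := by rw [e']; group
      inv_mem' := by
        rintro m ⟨hm, s, hs, e⟩
        refine ⟨inv_mem hm, m⁻¹ * s⁻¹ * m, conj_mem_of_normalizes' le_rfl hm (inv_mem hs), ?_⟩
        calc _ = m⁻¹ * s⁻¹ * (m * x * m⁻¹) * s * m := by group
          _ = _ := by rw [← e]; group }
  have hx1 : x ∈ XX S z := by simpa using hx.mem_XX hr (one_mem _)
  have hK : h ∈ K := by
    rcases c.tri hx1 (c.conj_mem_XX hh hx1) (c.conj_mem_XX (mul_mem hh hh) hx1) with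
      e | e | ⟨s, hs, e⟩
    · exact ⟨hh, e⟩
    · exact FusInv.mem_of_pow_two_pow_mem ho (k := 1) (by rw [pow_one, pow_two]; exact ⟨mul_mem hh hh, e⟩)
    · refine ⟨hh, h⁻¹ * s * h, conj_mem_of_normalizes' le_rfl hh hs, ?_⟩
      calc _ = h⁻¹ * (s * (h * x * h⁻¹) * s⁻¹) * h := by group
        _ = _ := by rw [e]; group
  have hu := (hr.cls _).1 hK.2
  have hC := FusInv.quiet_of_isCyclic (hr.dx.pg.to_le hr.le) h (hr.mem_norm hh hu) ho
  obtain ⟨k, hk⟩ := isPGroup_iff_forall_mem.1 hr.dx.pg _ (hr.le hu)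
  have h1 := FusInv.comm_of_triv ho hk (by rw [hr.dx.xi]) (hC _ hu)
  have hu' := (hr.cls _).1 ⟨t, ht, rfl⟩
  calc t * x * t⁻¹ * h = x * (x * (t * x * t⁻¹) * h) := by
        rw [← mul_assoc, ← mul_assoc x x, hx.x2, one_mul]
    _ = x * h * (x * (t * x * t⁻¹)) := by rw [hC _ hu']; group
    _ = _ := by rw [h1, mul_assoc, ← mul_assoc x x, hx.x2, one_mul]

theorem comm_mem_Z0 {h s : G} (hh : h ∈ 𝐍 S) (ho : Odd (orderOf h)) (hs : s ∈ S) (hX : Ess S X) :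
    s⁻¹ * (h * s * h⁻¹) ∈ Z0 S X := by
  obtain ⟨x, r, hx, hr⟩ := c.tp X hX
  have hbS : s⁻¹ * (h * s * h⁻¹) ∈ S := mul_mem (inv_mem hs) (conj_mem_of_normalizes le_rfl hh hs)
  have hb : ∀ a ∈ XX S z, s⁻¹ * (h * s * h⁻¹) * a = a * (s⁻¹ * (h * s * h⁻¹)) := fun a ha => by
    have h1 := c.comm_of_odd hh ho ha
    have h2 := c.comm_of_odd hh ho (c.conj_mem_XX (le_normalizer hs) ha)
    calc s⁻¹ * (h * s * h⁻¹) * a = s⁻¹ * h * s * h⁻¹ * (a * h) * h⁻¹ := by group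
      _ = s⁻¹ * (h * (s * a * s⁻¹)) * s * h⁻¹ := by rw [h1]; group
      _ = _ := by rw [← h2]; group
  have hpow : (s⁻¹ * (h * s * h⁻¹) * h) ^ orderOf h = 1 := by
    have : s⁻¹ * (h * s * h⁻¹) * h = s⁻¹ * h * s⁻¹⁻¹ := by group
    rw [this, conj_pow, pow_orderOf_eq_one]; group
  generalize s⁻¹ * (h * s * h⁻¹) = b at hbS hb hpow
  have hx1 : x ∈ XX S z := by simpa using hx.mem_XX hr (one_mem _)
  have hbX : b ∈ X := hx.cx b hbS (hb x hx1)
  have hbT : b ∈ 𝐂 (S ⊓ 𝐍 X) := (hx.dec' b hbX).resolve_right fun f => by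
    obtain ⟨w, hw, w1, z2⟩ := hr.exists_sq
    have e3 := mul_eq_of_inv hx.x2 (hr.inv' (inv_mem hw))
    rw [inv_inv] at e3
    have hwT : w ∈ S ⊓ 𝐍 X := hx.mem_T (hr.le hw) (by
      have : w * x * w⁻¹ = x * z := by
        rw [e3, mul_assoc, ← mul_inv_rev, w1, inv_eq_of_mul_eq_one_right z2]
      rw [this, mul_assoc, hr.dx.cen hr.dx.xS])
    have h1 : b * w = w * b := by
      have := hb _ (hx.mul_mem_XX hr hw)
      rwa [← mul_assoc, hb x hx1, mul_assoc, mul_assoc, mul_left_cancel_iff] at this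
    have h2 := f w hwT
    rw [mul_assoc, h1, ← mul_assoc, ← mul_assoc, mul_left_inj] at h2
    rcases hr.eq_of_comm hw h2 with e | e
    · exact hx.z1 (by rw [← w1, e, mul_one])
    · exact hx.z1 (by rw [← w1, e, z2])
  refine (hx.dec b hbX hbT).resolve_right fun f => hx.z0 ?_
  have hhX : h ∈ 𝐍 X := mem_normalizer_of_cj_le (cj_le_iff_forall.2 fun e he =>
    hx.cx _ (conj_mem_of_normalizes le_rfl hh (hX.le he)) (by
      calc h * e * h⁻¹ * x = h * e * h⁻¹ * (x * h) * h⁻¹ := by group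
        _ = h * (e * x) * h⁻¹ := by rw [c.comm_of_odd hh ho hx1]; group
        _ = h * x * e * h⁻¹ := by rw [hX.comm e he x hx.xE]; group
        _ = _ := by rw [← c.comm_of_odd hh ho hx1]; group))
  have h1 := pow_mul_inv_mem f (fun y hy => conj_mem_Z0 hhX hy) (orderOf h)
  have hzc : Commute z (b * h) := by
    refine Commute.mul_right (hr.dx.cen hbS).symm ?_
    exact (mul_inv_eq_iff_eq_mul.1 (c.cen_z hh)).symm
  obtain ⟨m, hm⟩ := ho
  rw [mul_assoc, hzc.mul_pow, hpow, pow_orderOf_eq_one, hm, pow_succ, pow_mul, pow_two, hx.z2] at h1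
  simpa using h1

end Ctx

section
variable {P : Sylow 2 G} (c : Ctx (P : Subgroup G) z)
  (hsc : ∀ Y : Subgroup G, IsMulCommutative Y → IsStronglyClosed Y (P : Subgroup G) → Y = ⊥)
include c hsc

theorem Ctx.cent_of_odd {h : G} (hh : h ∈ 𝐍 (P : Subgroup G)) (ho : Odd (orderOf h)) :
    h ∈ 𝐂 (P : Subgroup G) := by
  let Y : Subgroup G := ⨅ X : {X // Ess (P : Subgroup G) X}, Z0 P X
  have hY : ∀ y, y ∈ Y ↔ ∀ X, Ess (P : Subgroup G) X → y ∈ Z0 (P : Subgroup G) X := fun y => by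
    simp [Y, mem_iInf]
  obtain ⟨E, hE⟩ := c.ex
  have hYE : Y ≤ E := fun y hy => ((hY y).1 hy E hE).1
  have h1 : ∀ n ∈ 𝐍 (P : Subgroup G), ∀ y ∈ Y, n * y * n⁻¹ ∈ Y := fun n hn y hy =>
    (hY _).2 fun X hX => by
      have := conj_mem_Z0_cj hn ((hY y).1 hy _ (hX.cj (inv_mem hn)))
      rwa [cj_inv_cj] at this
  have h2 : ∀ X, Ess (P : Subgroup G) X → ∀ g ∈ 𝐍 X, ∀ y ∈ Y, g * y * g⁻¹ ∈ Y :=
    fun X hX g hg y hy => by
      obtain ⟨x, r, hx, -⟩ := c.tp X hX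
      obtain ⟨n, hn, e⟩ := hx.fus g hg
      rw [e y ((hY y).1 hy X hX)]
      exact h1 n hn.2 y hy
  have h3 := hsc Y ⟨⟨fun a b => Subtype.ext (hE.comm _ (hYE a.2) _ (hYE b.2))⟩⟩
    ⟨hYE.trans hE.le, fun y hy g hg => (invariant_ess c.hU (fun a => a ∈ Y)
      (fun n hn a _ => propext ⟨fun f => by simpa [mul_assoc] using h1 n⁻¹ (inv_mem hn) _ f, h1 n hn a⟩)
      (fun X hX g hg a _ => propext ⟨fun f => by
        simpa [mul_assoc] using h2 X hX g⁻¹ (inv_mem hg) _ f, h2 X hX g hg a⟩)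
      (hE.le (hYE hy)) hg).to_iff.2 hy⟩
  intro s hs
  have h4 : s⁻¹ * (h * s * h⁻¹) ∈ Y := (hY _).2 fun X hX => c.comm_mem_Z0 hh ho hs hX
  rw [h3, mem_bot, inv_mul_eq_one, eq_mul_inv_iff_mul_eq] at h4
  exact h4

theorem Ctx.closure_eq [IsSimpleGroup G] : closure (XX (P : Subgroup G) z) = P := by
  have hle : closure (XX (P : Subgroup G) z) ≤ P := (closure_le _).2 fun a ha => by
    obtain ⟨X, x, r, hx, hr, t, ht, rfl⟩ := c.exists_good ha
    exact mul_mem (mul_mem ht hr.dx.xS) (inv_mem ht)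
  set D := ⁅(P : Subgroup G), (P : Subgroup G)⁆ ⊔ closure (XX (P : Subgroup G) z) with hD
  have hN : ∀ n ∈ 𝐍 (P : Subgroup G), ∀ a ∈ (P : Subgroup G), a⁻¹ * (n * a * n⁻¹) ∈ D := by
    intro n hn a ha
    have h1 : 𝐍 (P : Subgroup G) ≤ (P : Subgroup G) ⊔ 𝐂 (P : Subgroup G) := FusInv.le_of_sylowIn_of_odd
      (sylIn_sylow P le_normalizer).not_dvd_relIndex (inf_le_left.trans le_sup_left)
      fun g hg ho => mem_sup_right (c.cent_of_odd hsc hg ho)
    obtain ⟨s, hs, k, hk, rfl⟩ :=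
      (mem_sup_of_normalizes_right (le_normalizer_centralizer le_normalizer)).1 (h1 hn)
    refine mem_sup_left ?_
    convert commutator_mem_commutator (inv_mem ha) hs using 1
    rw [mul_assoc s k, ← hk a ha, commutatorElement_def]; group
  have hx : ∀ {X x r}, Tp (P : Subgroup G) X x z → Dr (P : Subgroup G) x z r →
      x ∈ D ∧ z ∈ D := fun {X x r} hx hr => by
    have h1 : x ∈ D := mem_sup_right (subset_closure (by simpa using hx.mem_XX hr (one_mem _)))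
    exact ⟨h1, (mul_mem_cancel_left h1).1
      (mem_sup_right (subset_closure (hx.mul_mem_XX hr hr.z_mem)))⟩
  have hE : ∀ X, Ess (P : Subgroup G) X → ∀ g ∈ 𝐍 X, ∀ a ∈ X, a⁻¹ * (g * a * g⁻¹) ∈ D := by
    intro X hX g hg
    obtain ⟨x, r, h, hr⟩ := c.tp X hX
    obtain ⟨d1, d2⟩ := hx h hr
    have h1 : ∀ g ∈ 𝐍 X, g * z * g⁻¹ ∈ D := fun g hg => by
      rcases h.cls g hg with e | e | e <;> rw [e]
      exacts [d2, d1, mul_mem d1 d2]
    have h2 : ∀ v ∈ X, ∀ a ∈ X, v ∈ D → g * v * g⁻¹ ∈ D → (v * a)⁻¹ * (g * (v * a) * g⁻¹) ∈ D →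
        a⁻¹ * (g * a * g⁻¹) ∈ D := fun v hv a ha e1 e2 e3 => by
      have e4 := hX.comm _ (inv_mem ha) _ (mul_mem (inv_mem hv) (conj_mem_of_normalizes le_rfl hg hv))
      refine (mul_mem_cancel_left (mul_mem (inv_mem e1) e2)).1 ?_
      convert e3 using 1
      rw [← mul_assoc, ← e4]; group
    have h3 : ∀ a ∈ Z0 (P : Subgroup G) X, a⁻¹ * (g * a * g⁻¹) ∈ D := fun a ha => by
      obtain ⟨n, hn, e⟩ := h.fus g hg
      rw [e a ha]
      exact hN n hn.2 a (hX.le ha.1)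
    have h4 : ∀ a ∈ X, a ∈ 𝐂 ((P : Subgroup G) ⊓ 𝐍 X) → a⁻¹ * (g * a * g⁻¹) ∈ D := fun a ha f =>
      (h.dec a ha f).elim (h3 a) fun f' => h2 z h.zE a ha d2 (h1 g hg) (h3 _ f')
    intro a ha
    refine (h.dec' a ha).elim (h4 a ha) fun f => h2 x h.xE a ha d1 ?_ (h4 _ (mul_mem h.xE ha) f)
    obtain ⟨g0, hg0, e⟩ := h.conj
    convert h1 _ (mul_mem hg hg0) using 1
    rw [← e]; group
  have hDP : D ≤ P := sup_le (commutator_le_left_of_normalizes le_normalizer) hle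
  obtain ⟨K, hK, hKP, -⟩ := FusInv.exists_normal_inf_eq P hDP fun a ha g hg =>
    QuotientGroup.eq.1 (invariant_ess c.hU (fun a => (QuotientGroup.mk a : G ⧸ D))
      (fun n hn a ha => (QuotientGroup.eq.2 (hN n hn a ha)).symm)
      (fun X hX g hg a ha => (QuotientGroup.eq.2 (hE X hX g hg a ha)).symm) ha hg).symm
  obtain ⟨E, hE'⟩ := c.ex
  obtain ⟨x, r, h, hr⟩ := c.tp E hE'
  rcases hK.eq_bot_or_eq_top with rfl | rfl
  · have := (hx h hr).2
    rw [← hKP, bot_inf_eq, mem_bot] at this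
    exact absurd this h.z1
  refine eq_of_sup_eq_of_le_map_frattini hle ?_ (by rw [← hD, ← hKP, top_inf_eq])
  rw [← map_subtype_commutator]
  exact map_mono (PG.commutator_le_frattini P.2)

theorem Ctx.exists_gen [IsSimpleGroup G] :
    ∃ x y : G, orderOf x = 2 ∧ orderOf y = 2 ∧ x ≠ y ∧ closure {x, y} = (P : Subgroup G) := by
  obtain ⟨E, hE⟩ := c.ex
  obtain ⟨x, r, h, hr⟩ := c.tp E hE
  have ho : ∀ {X y r}, Tp (P : Subgroup G) X y z → Dr (P : Subgroup G) y z r → orderOf y = 2 :=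
    fun {X y r} h hr => orderOf_eq_prime (by rw [pow_two, h.x2]) fun e =>
      h.ess.ne fun s hs => h.cx s hs (by rw [e, mul_one, one_mul])
  have hx1 : x ∈ XX (P : Subgroup G) z := by simpa using h.mem_XX hr (one_mem _)
  have key : ∀ {y r a : G} {K : Subgroup G}, Dr (P : Subgroup G) y z r → y ∈ K → zpowers r ≤ K →
      (∃ t ∈ (P : Subgroup G), t * y * t⁻¹ = a) → a ∈ K := fun hr h1 h2 e =>
    (mul_mem_cancel_left h1).1 (h2 ((hr.cls _).1 e))
  by_cases hc : ∀ a ∈ XX (P : Subgroup G) z, ∃ t ∈ (P : Subgroup G), t * x * t⁻¹ = a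
  · obtain ⟨t, ht, e⟩ := hr.conj_mul (mem_zpowers r)
    have h1 : x ∈ closure {x, x * r} := subset_closure (Or.inl rfl)
    refine ⟨x, x * r, ho h hr, by rw [← e, FusInv.orderOf_conj, ho h hr], fun f => hr.r2 ?_,
      le_antisymm ((closure_le _).2 ?_) ?_⟩
    · rw [left_eq_mul.1 f, mul_one]
    · rintro _ (rfl | rfl)
      exacts [hr.dx.xS, mul_mem hr.dx.xS hr.rS]
    · rw [← c.closure_eq hsc]
      exact (closure_le _).2 fun a ha => key hr h1
        (zpowers_le.2 ((mul_mem_cancel_left h1).1 (subset_closure (Or.inr rfl)))) (hc a ha)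
  push Not at hc
  obtain ⟨b, hb, hb'⟩ := hc
  obtain ⟨X, y, r', h', hr', s, hs, rfl⟩ := c.exists_good hb
  have hn : ¬ ∃ t ∈ (P : Subgroup G), t * x * t⁻¹ = y := fun ⟨t, ht, e⟩ =>
    hb' (s * t) (mul_mem hs ht) (by rw [← e]; group)
  have h1 : x ∈ closure {x, y} := subset_closure (Or.inl rfl)
  have h2 : y ∈ closure {x, y} := subset_closure (Or.inr rfl)
  have h3 : zpowers r ≤ closure {x, y} := by
    rw [h.zpowers_eq hr h' hn]
    exact zpowers_le.2 (mul_mem (mul_mem h1 h2) (mul_mem h1 h2))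
  refine ⟨x, y, ho h hr, ho h' hr', fun f => hn ⟨1, one_mem _, by rw [f]; group⟩,
    le_antisymm ((closure_le _).2 ?_) ?_⟩
  · rintro _ (rfl | rfl)
    exacts [hr.dx.xS, hr'.dx.xS]
  · rw [← c.closure_eq hsc]
    refine (closure_le _).2 fun a ha => ?_
    rcases c.tri hx1 (by simpa using h'.mem_XX hr' (one_mem _)) ha with e | e | e
    · exact absurd e hn
    · exact key hr h1 h3 e
    · exact key hr' h2 (h.zpowers_eq' hr h' hr' hn ▸ h3) e

end

/-- The main result. -/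
theorem main [IsSimpleGroup G] (hG : ¬ IsMulCommutative G) {P : Sylow 2 G} (hU : Uq (P : Subgroup G))
    (hsc : ∀ Y : Subgroup G, IsMulCommutative Y → IsStronglyClosed Y (P : Subgroup G) → Y = ⊥) :
    (∃ x y : G, orderOf x = 2 ∧ orderOf y = 2 ∧ x ≠ y ∧ closure {x, y} = (P : Subgroup G)) ∨
      ∀ s ∈ (P : Subgroup G), ∀ t ∈ (P : Subgroup G), ∀ u ∈ (P : Subgroup G),
        ⁅s, t⁆ * u = u * ⁅s, t⁆ := by
  refine or_iff_not_imp_right.2 fun hn => ?_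
  by_cases h1 : ∃ E, Ess (P : Subgroup G) E ∧ ¬ (P : Subgroup G) ≤ 𝐍 E
  · obtain ⟨E, hE, hEn⟩ := h1
    obtain ⟨s, -, hp⟩ := hE.exists_pr hU hEn
    have hb : (s •ᶜ E).relIndex (Ω E) ≤ 2 := by
      by_contra hb
      obtain ⟨K, hK, hK2⟩ := hp.exists_index_two hU hb hEn
      rcases hK.eq_bot_or_eq_top with rfl | rfl
      · rw [index_bot] at hK2
        haveI := isCyclic_of_prime_card hK2
        exact hG inferInstance
      · simp at hK2
    obtain ⟨x, z, hx⟩ := hp.exists_tp hU hb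
    obtain ⟨r, hr⟩ := (hx.dx hU hEn).exists_dr
    refine Ctx.exists_gen (z := z) ⟨hU, fun X hX => ?_, E, hE⟩ hsc
    obtain ⟨y, hy⟩ := hr.exists_tp hU hX
    obtain ⟨r', hr'⟩ := (hy.dx hU fun f => hn fun _ a _ b _ c => hy.class_two f a b c).exists_dr
    exact ⟨y, r', hy, hr'⟩
  exfalso
  push Not at h1
  have h2 : ∀ E F, Ess (P : Subgroup G) E → Ess (P : Subgroup G) F → E = F := fun E F hE hF => by
    by_contra hne
    exact hn fun _ a _ b _ c => (pr_of_ne hU hE hF hne (hE.le.trans (h1 F hF))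
      (hF.le.trans (h1 E hE))).class_two hU (h1 E hE) a b c
  have hP : (P : Subgroup G) ≠ ⊥ := fun e => hn fun s hs t ht u hu => by
    rw [e, mem_bot] at hu
    rw [hu, mul_one, one_mul]
  have key : ∀ Y : Subgroup G, Y ≤ P → (∀ a ∈ Y, ∀ b ∈ Y, a * b = b * a) →
      𝐍 (P : Subgroup G) ≤ 𝐍 Y → (∀ E, Ess (P : Subgroup G) E → 𝐍 E ≤ 𝐍 Y) → Y = ⊥ :=
    fun Y a b c d => hsc Y ⟨⟨fun u v => Subtype.ext (b _ u.2 _ v.2)⟩⟩ ⟨a, fun y hy g hg =>
      (invariant_ess hU (fun a => a ∈ Y)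
        (fun n hn a _ => propext (mem_normalizer_iff.1 (c hn) a).symm)
        (fun X hX g hg a _ => propext (mem_normalizer_iff.1 (d X hX hg) a).symm) (a hy) hg).to_iff.2 hy⟩
  by_cases h3 : ∃ E, Ess (P : Subgroup G) E
  · obtain ⟨E, hE⟩ := h3
    have := key E hE.le hE.comm (fun n hn => mem_normalizer_iff_cj.2 (h2 _ _ (hE.cj hn) hE))
      fun X hX => by rw [h2 X E hX hE]
    exact hE.ne fun s hs => hE.cent s hs fun e he => by
      rw [this, mem_bot] at he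
      rw [he, mul_one, one_mul]
  · exact inf_centralizer_ne_bot P.2 P.2 le_normalizer hP (key _ inf_le_left
      (fun a ha b hb => hb.2 a ha.1)
      (CL.MSS.le_normalizer_inf le_rfl (normalizer_le_normalizer_centralizer _))
      fun E hE => absurd ⟨E, hE⟩ h3)

end CL.AInt
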